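import Groth.Agent.RedOpen.Criterion
import Groth.Agent.RedRank.TorusDim
import Groth.Agent.RedRank.IsoNhd
import Groth.Agent.FibDim.BaseField
import Groth.Agent.GrpSchLib.AffineHopf
import Groth.Agent.TorusQI.MaxSubtorus
import Mathlib.LinearAlgebra.FreeModule.PID

/-!
# Lemmas for the openness of the reductive locus
-/

universe u

open CategoryTheory CategoryTheory.Limits MonoidalCategory CartesianMonoidalCategory MonObj AlgebraicGeometry

set_option backward.isDefEq.respectTransparency false
set_option backward.isDefEq.respectTransparency.types false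
set_option linter.style.haveILetI false
set_option synthInstance.maxHeartbeats 200000
set_option maxHeartbeats 1000000
set_option autoImplicit false

namespace Groth.Agent.RedOpen

open GrpSchLib GrpSchLib.AffineHopf SolvGrp

/-- The dimension of the fibre at a field valued point is the dimension of the fibre. -/
theorem dim_bc {S : Scheme.{u}} (X : Over S) [LocallyOfFiniteType X.hom] {K : Type u} [Field K]
    (b : Spec (CommRingCat.of K) ⟶ S) :
    topologicalKrullDim ↥(Red.bc b X).left = topologicalKrullDim ↥(X.hom ⁻¹' {b (IsLocalRing.closedPoint K)}) := by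
  obtain ⟨t, ht⟩ : ∃ t, b (IsLocalRing.closedPoint K) = t := ⟨_, rfl⟩
  rw [ht]
  obtain ⟨τ, -, hτ⟩ := RedRank.exists_residue_lift b t ht
  subst hτ
  let p : (Red.bc (τ ≫ S.fromSpecResidueField t) X).left ⟶ X.hom.fiber t :=
    pullback.lift (pullback.fst X.hom _) (pullback.snd X.hom (τ ≫ S.fromSpecResidueField t) ≫ τ) (by
      rw [Category.assoc, pullback.condition])
  have hp : IsPullback p (pullback.snd X.hom (τ ≫ S.fromSpecResidueField t))
      (pullback.snd X.hom (S.fromSpecResidueField t)) τ := by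
    refine IsPullback.of_right ?_ (pullback.lift_snd _ _ _) (IsPullback.of_hasPullback _ _)
    rw [show p ≫ pullback.fst X.hom (S.fromSpecResidueField t) = pullback.fst X.hom (τ ≫ S.fromSpecResidueField t) from
      pullback.lift_fst _ _ _]
    exact IsPullback.of_hasPullback X.hom (τ ≫ S.fromSpecResidueField t)
  haveI : LocallyOfFiniteType (pullback.snd X.hom (τ ≫ S.fromSpecResidueField t)) := inferInstance
  haveI : LocallyOfFiniteType (pullback.snd X.hom (S.fromSpecResidueField t)) := inferInstance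
  haveI : Subsingleton ↥(Spec (CommRingCat.of K)) := FibDim.subsingleton_spec_field K
  haveI : Subsingleton ↥(Spec (S.residueField t)) := FibDim.subsingleton_spec_field (S.residueField t)
  haveI : Nonempty ↥(Spec (CommRingCat.of K)) := ⟨IsLocalRing.closedPoint K⟩
  refine (FibDim.topologicalKrullDim_baseChange hp).trans ?_
  exact (X.hom.fiberHomeo t).isHomeomorph.topologicalKrullDim_eq

/-- A torus over an algebraically closed field is reductive. -/
theorem isReductiveOver_torus {k : Type u} [Field k] [IsAlgClosed k] {T : Over (Spec (CommRingCat.of k))} [GrpObj T]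
    (hT : Red.IsTorus T) : Red.IsReductiveOver k T := by
  obtain ⟨haT, hsT, hcT, hss⟩ := torus_props hT
  haveI := haT; haveI := hsT; haveI := hcT
  refine ⟨haT, hsT, hcT, fun U _ u _ hci hsU hcU _ hnt => ?_⟩
  haveI := hci; haveI := hsU; haveI := hcU
  obtain ⟨haU, hlU, -, hmU, -⟩ := sub_props u
  haveI := haU; haveI := hlU; haveI := hmU
  haveI : IsReduced T.left := isReduced_of_smooth_field T.hom
  haveI : IsReduced U.left := isReduced_of_smooth_field U.hom
  refine isTrivialGrp_of_pts fun x => ?_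
  rw [← cancel_mono u, MonObj.one_comp]
  exact eq_one_of_isSsPt_isUnipPt (hss _) ((map_isSsPt_isUnipPt u x).2 (isUnipPt_of_hasNoSubtorus hnt x))

/-- Tori are stable under isomorphism. -/
theorem isTorus_of_grpIso {S : Scheme.{u}} {T T' : Over S} [GrpObj T] [GrpObj T'] (e : Grp.mk T ≅ Grp.mk T')
    (h : Red.IsTorus T') : Red.IsTorus T := by
  obtain ⟨S', g, hg, hs, hq, hl⟩ := h
  refine ⟨S', g, hg, hs, hq, fun s' => ?_⟩
  obtain ⟨U, hU, r, ⟨e'⟩⟩ := hl s'
  obtain ⟨e''⟩ := MultTypeBC.bc_iso (U.ι ≫ g) e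
  exact ⟨U, hU, r, ⟨e'' ≪≫ e'⟩⟩

/-- A lattice element is a multiple of a primitive one. -/
theorem exists_primitive {r : ℕ} (m : Fin r → ℤ) :
    ∃ mu : Fin r → ℤ, m ∈ AddSubgroup.zmultiples mu ∧
      ∀ (d : ℤ) (x : Fin r → ℤ), d ≠ 0 → d • x ∈ AddSubgroup.zmultiples mu → x ∈ AddSubgroup.zmultiples mu := by
  classical
  by_cases hm : m = 0
  · refine ⟨0, by rw [hm]; exact zero_mem _, fun d x hd h => ?_⟩
    simp only [AddSubgroup.zmultiples_zero_eq_bot, AddSubgroup.mem_bot] at h ⊢
    exact (smul_eq_zero.mp h).resolve_left hd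
  obtain ⟨i₀, hi₀⟩ : ∃ i, m i ≠ 0 := Function.ne_iff.mp hm
  obtain ⟨mu, hmu, hg⟩ := Finset.extract_gcd m ⟨i₀, Finset.mem_univ _⟩
  refine ⟨mu, AddSubgroup.mem_zmultiples_iff.mpr ⟨Finset.univ.gcd m, funext fun i => ?_⟩, fun d x hd h => ?_⟩
  · simpa using (hmu i (Finset.mem_univ i)).symm
  · obtain ⟨e, he⟩ := AddSubgroup.mem_zmultiples_iff.mp h
    have hdiv : d ∣ e := by
      have h1 : d ∣ Finset.univ.gcd fun i => e * mu i := Finset.dvd_gcd fun i _ => ⟨x i, by
        have := congrFun he i
        simpa using this⟩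
      rw [Finset.gcd_mul_left, hg, _root_.mul_one] at h1
      exact dvd_normalize_iff.mp h1
    obtain ⟨c, rfl⟩ := hdiv
    refine AddSubgroup.mem_zmultiples_iff.mpr ⟨c, funext fun i => ?_⟩
    have := congrFun he i
    simp only [Pi.smul_apply, smul_eq_mul, _root_.mul_assoc] at this ⊢
    exact mul_left_cancel₀ hd this

/-- The subtorus cut out by a primitive character is a torus. -/
theorem isTorus_quot (R : Type u) [CommRing R] {r : ℕ} (N : AddSubgroup (Fin r → ℤ))
    (hN : ∀ (d : ℤ) (x : Fin r → ℤ), d ≠ 0 → d • x ∈ N → x ∈ N) :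
    Red.IsTorus (sp R (MonoidAlgebra R (Multiplicative ((Fin r → ℤ) ⧸ N)))) := by
  let Q := (Fin r → ℤ) ⧸ N
  haveI : AddGroup.FG (Fin r → ℤ) := Module.Finite.iff_addGroup_fg.1 inferInstance
  haveI : AddGroup.FG Q := QuotientAddGroup.fg _
  haveI : Module.Finite ℤ Q := Module.Finite.iff_addGroup_fg.2 inferInstance
  haveI : Module.IsTorsionFree ℤ Q := Module.IsTorsionFree.of_smul_eq_zero fun d q h => by
    obtain ⟨x, rfl⟩ := QuotientAddGroup.mk_surjective q
    by_cases hd : d = 0
    · exact Or.inl hd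
    refine Or.inr ((QuotientAddGroup.eq_zero_iff x).mpr (hN d x hd ((QuotientAddGroup.eq_zero_iff _).mp ?_)))
    simpa using h
  obtain ⟨n, b⟩ := Module.basisOfFiniteTypeTorsionFree' (R := ℤ) (M := Q)
  let e : Multiplicative Q ≃* Multiplicative (Fin n → ℤ) := b.equivFun.toAddEquiv.toMultiplicative
  obtain ⟨e₁⟩ := nonempty_DS_iso R (Fin n → ℤ)
  let e₂ := spIso (MonoidAlgebra.domCongrBialgEquiv R R e.symm)
  exact isTorus_of_grpIso (e₂ ≪≫ e₁) (TorusQI.isTorus_DS n)

end Groth.Agent.RedOpen
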