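import Groth.Agent.RedOpen.RankOneFibre
import Groth.Agent.RedOpen.NhdLemmas
import Groth.Agent.RedRank.IsoNhd
import Groth.Agent.SolvGrp.MaxToriSep
import Groth.Agent.RedRank.CartanNhd
import Groth.Agent.RedRank.SplitMax
import Groth.Agent.MaxTorCent.Basic
import Groth.Agent.S5247
import Groth.Agent.S5248
import Groth.Agent.S5249
import Groth.Agent.GrpSchLib.FibreDimGrp
import Groth.Agent.SolvGrp.TorusSepBase

/-!
# The centraliser of a corank one subtorus is reductive near a reductive fibre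
-/

universe u

open CategoryTheory CategoryTheory.Limits MonoidalCategory CartesianMonoidalCategory MonObj AlgebraicGeometry
open TensorProduct WithConv

set_option backward.isDefEq.respectTransparency false
set_option backward.isDefEq.respectTransparency.types false
set_option linter.style.haveILetI false
set_option synthInstance.maxHeartbeats 200000
set_option maxHeartbeats 2000000
set_option autoImplicit false

namespace Groth.Agent.RedOpen

open GrpSchLib GrpSchLib.AffineHopf RedRank.CentreLocal SolvGrp AGFLib.BorelFixed AGFLib.BorelExist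

variable {R : Type u} [CommRing R] {A : Type u} [CommRing A] [HopfAlgebra R A] {r : ℕ}
  (f : A →ₐc[R] MonoidAlgebra R (Multiplicative (Fin r → ℤ)))

theorem geomPt_closedPoint {S : Scheme.{u}} (t : S) :
    Red.geomPt t (IsLocalRing.closedPoint (AlgebraicClosure (S.residueField t))) = t := by
  show (Spec.map _ ≫ S.fromSpecResidueField t) _ = t
  rw [Scheme.Hom.comp_apply, Scheme.fromSpecResidueField_apply]

/-- Connected fibres give connected fibres at geometric points. -/
theorem connectedSpace_bc_point {S : Scheme.{u}} {X : Over S} [GrpObj X] [LocallyOfFiniteType X.hom] {K : Type u}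
    [Field K] (b : Spec (CommRingCat.of K) ⟶ S) (h : ∀ t : S, _root_.IsConnected (X.hom.base ⁻¹' {t})) :
    ConnectedSpace ↥(Red.bc b X).left := by
  haveI : Subsingleton ↥(Spec (CommRingCat.of K)) := FibDim.subsingleton_spec_field K
  have hs := SmoothWeilLib.isConnected_preimage_snd h b (IsLocalRing.closedPoint K)
  have hu : (Set.univ : Set ↥(pullback X.hom b)) = (pullback.snd X.hom b).base ⁻¹' {IsLocalRing.closedPoint K} :=
    (Set.eq_univ_of_forall fun x => Subsingleton.elim (α := ↥(Spec (CommRingCat.of K))) _ _).symm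
  have h2 : _root_.IsConnected (Set.univ : Set ↥(pullback X.hom b)) := hu ▸ hs
  exact connectedSpace_iff_univ.mpr h2

/-- Near a fibre of dimension at most `r + 2` with a non-trivial Weyl element the group is reductive. -/
theorem exists_nhd_weyl {S : Scheme.{u}} {T Z : Over S} [GrpObj T] [GrpObj Z] [Smooth Z.hom] [IsAffineHom Z.hom]
    (a : T ⟶ Z) [IsMonHom a] [IsClosedImmersion a.left] [Mono a]
    (hZconn : ∀ t : S, _root_.IsConnected (Z.hom.base ⁻¹' {t})) (hT : Red.IsTorus T) (r : ℕ)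
    (hTdim : ∀ (K : Type u) [Field K] [IsAlgClosed K] (b : Spec (CommRingCat.of K) ⟶ S),
      topologicalKrullDim ↥(Red.bc b T).left = (r : WithBot ℕ∞))
    (hmaxt : ∀ (K : Type u) [Field K] [IsAlgClosed K] (b : Spec (CommRingCat.of K) ⟶ S),
      AGF.IsMaxTorus ((Over.pullback b).map a)) {k₀ : Type u} [Field k₀] [IsAlgClosed k₀]
    (y : Spec (CommRingCat.of k₀) ⟶ S)
    (hdim : topologicalKrullDim ↥(Red.bc y Z).left ≤ (r : WithBot ℕ∞) + 2)
    (n : 𝟙_ _ ⟶ Red.bc y Z)
    (hn : ∀ s ∈ rangePts ((Over.pullback y).map a),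
      n⁻¹ * s * n ∈ rangePts ((Over.pullback y).map a))
    (s₁ : 𝟙_ _ ⟶ Red.bc y Z) (hs₁ : s₁ ∈ rangePts ((Over.pullback y).map a))
    (hns₁ : ¬ Commute n s₁) :
    ∃ V : S.Opens, y (IsLocalRing.closedPoint k₀) ∈ V ∧ ∀ (K : Type u) [Field K] [IsAlgClosed K] (b : Spec (CommRingCat.of K) ⟶ S),
      b (IsLocalRing.closedPoint K) ∈ V → Red.IsReductiveOver K (Red.bc b Z) := by
  have hTm := TorusQI.isMultTypeFT_of_isTorus hT
  haveI : LocallyOfFiniteType Z.hom := inferInstance
  haveI : Smooth T.hom := FixTorus.smooth_of_isTorus hT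
  let by' := y
  haveI : (Over.pullback by').IsRightAdjoint := (Over.mapPullbackAdj by').isRightAdjoint
  let ay : Red.bc y T ⟶ Red.bc y Z := (Over.pullback by').map a
  have hay : AGF.IsMaxTorus ay := hmaxt _ y
  haveI : IsMonHom ay := inferInstanceAs (IsMonHom ((Over.pullback by').map a))
  haveI : IsClosedImmersion ay.left :=
    MorphismProperty.of_isPullback (P := @IsClosedImmersion) (MaxTorusBC.isPullback_map by' a) inferInstance
  obtain ⟨haT, hsT, hcT, -⟩ := torus_props hay.2.2.1
  haveI := haT; haveI := hsT; haveI := hcT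
  haveI : IsAffineHom (pullback.snd Z.hom by') := MorphismProperty.pullback_snd (P := @IsAffineHom) _ _ inferInstance
  haveI : IsAffine (Red.bc y Z).left := isAffine_of_isAffineHom (pullback.snd Z.hom by')
  haveI : Smooth (Red.bc y Z).hom := inferInstanceAs (Smooth (pullback.snd Z.hom by'))
  haveI : IsReduced (Red.bc y Z).left := isReduced_of_smooth_field (Red.bc y Z).hom
  haveI : IsReduced (Red.bc y T).left := isReduced_of_smooth_field (Red.bc y T).hom
  haveI : LocallyOfFiniteType T.hom := by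
    haveI := FixTorus.smooth_of_isTorus hT
    infer_instance
  haveI : LocallyOfFiniteType (Red.bc y T).hom := inferInstanceAs (LocallyOfFiniteType (pullback.snd T.hom by'))
  haveI : Subsingleton ↥(𝟙_ (Over (Spec (CommRingCat.of k₀)))).left :=
    FibDim.subsingleton_spec_field _
  -- a Weyl element
  obtain ⟨Nm, _, nz, hnz, hncl, hnsm⟩ := Groth.Agent.S5248.result T Z hTm inferInstance inferInstance a
  haveI := hnz.1; haveI := hnz.2.1; haveI := hncl; haveI := hnsm
  obtain ⟨C, _, cz, hcz, hccl, hcsm⟩ := Groth.Agent.S5247.result T Z hTm inferInstance inferInstance a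
  obtain ⟨g, hg, hgo, hgc⟩ := Groth.Agent.S5249.result T Z C Nm hTm inferInstance inferInstance a cz nz hcz hnz
  haveI := hgo
  let W : Nm.left.Opens := ⟨(Set.range g.left)ᶜ, (hgc.base_closed.isClosed_range).isOpen_compl⟩
  -- the conjugation by the Weyl element
  let nT : Red.bc y T ⟶ Red.bc y Z := toUnit _ ≫ n
  let φ₀ : Red.bc y T ⟶ Red.bc y Z := nT⁻¹ * ay * nT
  have hφ₀ : ∀ {X : Over _} (x : X ⟶ Red.bc y T),
      x ≫ φ₀ = (toUnit X ≫ n)⁻¹ * (x ≫ ay) * (toUnit X ≫ n) := fun x => by
    simp only [φ₀, nT, MonObj.comp_mul, GrpObj.comp_inv, ← Category.assoc x, toUnit_unique (x ≫ toUnit _) (toUnit _)]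
  haveI : IsMonHom φ₀ := AGFLib.isMonHom_of_mul φ₀ fun X p q => by
    rw [hφ₀, hφ₀, hφ₀, MonObj.mul_comp]
    group
  obtain ⟨φ, hφm, hφ⟩ := SolvGrp.exists_fac_sub ay φ₀ (by
    rintro _ ⟨s, rfl⟩
    show s ≫ φ₀ ∈ rangePts ay
    rw [hφ₀, toUnit_unique (toUnit (𝟙_ _)) (𝟙 _), Category.id_comp]
    exact hn _ ⟨s, rfl⟩)
  haveI := hφm
  haveI : Mono ay := inferInstanceAs (Mono ((Over.pullback by').map a))
  haveI : Mono φ := ⟨fun {X} p q hpq => by
    have h := congrArg (· ≫ ay) hpq
    simp only [Category.assoc, hφ, hφ₀] at h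
    exact (cancel_mono ay).mp (mul_left_cancel (mul_right_cancel h))⟩
  haveI : IsIso φ := RedRank.isIso_of_dim hay.2.2.1 hay.2.2.1 φ rfl
  obtain ⟨w₀, hw₀⟩ := ((isNormalizerOf_bc by' a nz hnz).2.2 _ n).mpr fun X' x h => by
    rw [toUnit_unique x (toUnit X')]
    refine ⟨⟨h ≫ inv φ, ?_⟩, ⟨h ≫ φ, ?_⟩⟩
    · have h1 := hφ₀ (h ≫ inv φ)
      rw [← hφ, ← Category.assoc, Category.assoc h, IsIso.inv_hom_id, Category.comp_id] at h1
      show (toUnit X' ≫ n) * (h ≫ ay) * (toUnit X' ≫ n)⁻¹ = (h ≫ inv φ) ≫ ay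
      rw [h1]
      group
    · show (toUnit X' ≫ n)⁻¹ * (h ≫ ay) * (toUnit X' ≫ n) = (h ≫ φ) ≫ ay
      rw [Category.assoc, hφ, hφ₀]
  let pW : Set ↥S := Nm.hom '' (W : Set Nm.left)
  have hpW : IsOpen pW := Nm.hom.isOpenMap _ W.2
  -- points of the normaliser in the open part are not central
  have key : ∀ (K : Type u) [Field K] [IsAlgClosed K] (bt : Spec (CommRingCat.of K) ⟶ S) (v : 𝟙_ _ ⟶ Red.bc bt Nm),
      (∀ x ∈ rangePts ((Over.pullback bt).map a),
          Commute (v ≫ (Over.pullback bt).map nz) x) →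
        pullback.fst Nm.hom bt (v.left (IsLocalRing.closedPoint _)) ∉ W := by
    intro K _ _ bt v hv hmem
    haveI : (Over.pullback bt).IsRightAdjoint := (Over.mapPullbackAdj bt).isRightAdjoint
    haveI : IsAffineHom (pullback.snd Z.hom bt) := MorphismProperty.pullback_snd (P := @IsAffineHom) _ _ inferInstance
    haveI : IsAffine (Red.bc bt Z).left := isAffine_of_isAffineHom (pullback.snd Z.hom bt)
    haveI : Smooth (Red.bc bt Z).hom := inferInstanceAs (Smooth (pullback.snd Z.hom bt))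
    obtain ⟨-, hsTt, -, -⟩ := torus_props (hmaxt _ bt).2.2.1
    haveI := hsTt
    haveI : IsMonHom ((Over.pullback bt).map cz) := haveI := hcz.1; inferInstance
    obtain ⟨v', hv'⟩ := (mem_centralizer_pts ((Over.pullback bt).map a) (hmaxt _ bt).2.2.1
      (hc := isCentralizerOf_bc bt a cz hcz) _).mpr hv
    have e : v' ≫ (Over.pullback bt).map g = v := by
      haveI : Mono ((Over.pullback bt).map nz) := inferInstance
      rw [← cancel_mono ((Over.pullback bt).map nz), Category.assoc, ← Functor.map_comp, hg]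
      exact hv'
    refine hmem ⟨pullback.fst C.hom bt (v'.left (IsLocalRing.closedPoint _)), ?_⟩
    rw [← e, Over.comp_left]
    show _ = pullback.fst Nm.hom bt ((((Over.pullback bt).map g).left) (v'.left (IsLocalRing.closedPoint _)))
    rw [← Scheme.Hom.comp_apply (Limits.pullback.fst C.hom bt), ← GrpLimLib.map_left_fst (h := bt),
      Scheme.Hom.comp_apply]
    rfl
  have hyW : y (IsLocalRing.closedPoint k₀) ∈ pW := by
    let x₀ := pullback.fst Nm.hom by' (w₀.left (IsLocalRing.closedPoint _))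
    refine ⟨x₀, ?_, ?_⟩
    · show x₀ ∈ (Set.range g.left)ᶜ
      rintro ⟨c₀, hc₀⟩
      have hr : Set.range (w₀.left ≫ pullback.fst Nm.hom by') ⊆ Set.range g.left := by
        rintro _ ⟨x, rfl⟩
        rw [Subsingleton.elim x (IsLocalRing.closedPoint _)]
        exact ⟨c₀, hc₀⟩
      let l := IsOpenImmersion.lift g.left (w₀.left ≫ pullback.fst Nm.hom by') hr
      obtain ⟨v', hv'⟩ := (DSPtsLib.theta_bijective (g := by') (Y := 𝟙_ _) (H := C)).2 (Over.homMk l (by
        rw [← Over.w g, ← Category.assoc, IsOpenImmersion.lift_fac, Category.assoc, pullback.condition,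
          ← Category.assoc]
        exact congrArg (· ≫ by') (Over.w w₀)))
      have e : v' ≫ (Over.pullback by').map g = w₀ := (DSPtsLib.theta_bijective _).1 (by
        rw [TorsionCent.theta_map', hv']
        refine Over.OverMorphism.ext ?_
        rw [DSPtsLib.theta_left]
        exact IsOpenImmersion.lift_fac _ _ _)
      haveI : IsMonHom ((Over.pullback by').map cz) := haveI := hcz.1; inferInstance
      refine hns₁ ((mem_centralizer_pts ay hay.2.2.1 (hc := isCentralizerOf_bc by' a cz hcz) n).mp ⟨v', ?_⟩ s₁ hs₁)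
      show v' ≫ (Over.pullback by').map cz = n
      rw [← hg, Functor.map_comp, ← Category.assoc, e, hw₀]
    · show Nm.hom (pullback.fst Nm.hom by' _) = y (IsLocalRing.closedPoint k₀)
      rw [← Scheme.Hom.comp_apply, pullback.condition, Scheme.Hom.comp_apply,
        Subsingleton.elim ((pullback.snd Nm.hom by') _) (IsLocalRing.closedPoint _)]
  have hdy : topologicalKrullDim ↥(Z.hom ⁻¹' {y (IsLocalRing.closedPoint k₀)}) ≤ ((r + 2 : ℕ) : WithBot ℕ∞) := by
    rw [← dim_bc]
    refine hdim.trans ?_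
    push_cast
    exact le_rfl
  refine ⟨⟨pW ∩ {t | topologicalKrullDim ↥(Z.hom ⁻¹' {t}) ≤ ((r + 2 : ℕ) : WithBot ℕ∞)},
    hpW.inter (GrpSchLib.FibreDimGrp.isOpen_le Z (r + 2))⟩, ⟨hyW, hdy⟩, fun K _ _ bt ht => ?_⟩
  obtain ⟨⟨w, hwW, hwt⟩, hdt⟩ := ht
  haveI : (Over.pullback bt).IsRightAdjoint := (Over.mapPullbackAdj bt).isRightAdjoint
  haveI : IsAffineHom (pullback.snd Z.hom bt) := MorphismProperty.pullback_snd (P := @IsAffineHom) _ _ inferInstance
  haveI : IsAffine (Red.bc bt Z).left := isAffine_of_isAffineHom (pullback.snd Z.hom bt)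
  haveI : Smooth (Red.bc bt Z).hom := inferInstanceAs (Smooth (pullback.snd Z.hom bt))
  haveI : ConnectedSpace (Red.bc bt Z).left := connectedSpace_bc_point bt hZconn
  haveI : Smooth (Red.bc bt Nm).hom := inferInstanceAs (Smooth (pullback.snd Nm.hom bt))
  obtain ⟨p, hp, -⟩ := Scheme.Pullback.exists_preimage_pullback (f := Nm.hom) (g := bt) w
    (IsLocalRing.closedPoint _) (by rw [hwt])
  obtain ⟨v, hv⟩ := exists_pt_mem (Z := Red.bc bt Nm) (pullback.fst Nm.hom bt ⁻¹ᵁ W)
    ⟨p, show pullback.fst Nm.hom bt p ∈ W by rw [hp]; exact hwW⟩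
  have hnorm := ((isNormalizerOf_bc bt a nz hnz).2.2 _ (v ≫ (Over.pullback bt).map nz)).mp ⟨v, rfl⟩
  refine isReductiveOver_of_dim ((Over.pullback bt).map a) (hmaxt _ bt) (v ≫ (Over.pullback bt).map nz) ?_ ?_
    (fun h => key K bt v h hv) ?_
  · rintro _ ⟨s, rfl⟩
    obtain ⟨-, h', hh'⟩ := hnorm _ (𝟙 _) s
    rw [Category.id_comp] at hh'
    exact ⟨h', hh'.symm⟩
  · rintro _ ⟨s, rfl⟩
    obtain ⟨⟨h', hh'⟩, -⟩ := hnorm _ (𝟙 _) s
    rw [Category.id_comp] at hh'
    exact ⟨h', hh'.symm⟩
  · rw [dim_bc Z bt, hTdim K bt]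
    refine hdt.trans ?_
    push_cast
    exact le_rfl


/-- Near a reductive fibre the centraliser of the subtorus killed by a primitive character is reductive. -/
theorem exists_nhd_centralizer [Smooth (sp R A).hom]
    (hconn : ∀ t : ↥(Spec (CommRingCat.of R)), _root_.IsConnected ((sp R A).hom.base ⁻¹' {t}))
    (hmax : Red.IsMaximalTorus (incl f)) {k₀ : Type u} [Field k₀] [IsAlgClosed k₀]
    (y : Spec (CommRingCat.of k₀) ⟶ Spec (CommRingCat.of R))
    (hy : Red.IsReductiveOver k₀ (Red.bc y (sp R A)))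
    (mu : Fin r → ℤ) (N : AddSubgroup (Fin r → ℤ)) (hN : N = AddSubgroup.zmultiples mu)
    (hprim : ∀ (d : ℤ) (x : Fin r → ℤ), d ≠ 0 → d • x ∈ N → x ∈ N) :
    ∃ (Z : Over (Spec (CommRingCat.of R))) (_ : GrpObj Z) (z : Z ⟶ sp R A),
      Red.IsCentralizerOf (sub R N ≫ incl f) z ∧
      ∃ V : (Spec (CommRingCat.of R)).Opens, y (IsLocalRing.closedPoint k₀) ∈ V ∧
        ∀ (K : Type u) [Field K] [IsAlgClosed K] (b : Spec (CommRingCat.of K) ⟶ Spec (CommRingCat.of R)),
          b (IsLocalRing.closedPoint K) ∈ V → Red.IsReductiveOver K (Red.bc b Z) := by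
  haveI := hmax.1; haveI := hmax.2.1
  let T := sp R (MonoidAlgebra R (Multiplicative (Fin r → ℤ)))
  haveI : IsAffine (sp R A).left := inferInstanceAs (IsAffine (Spec _))
  haveI : IsAffine T.left := inferInstanceAs (IsAffine (Spec _))
  haveI : IsAffineHom (sp R A).hom := isAffineHom_of_isAffine _
  haveI : QuasiCompact (sp R A).hom := inferInstance
  haveI : LocallyOfFinitePresentation (sp R A).hom := inferInstance
  haveI : QuasiSeparated (sp R A).hom := inferInstance
  have hT : Red.IsTorus T := hmax.2.2.1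
  have hTm := TorusQI.isMultTypeFT_of_isTorus hT
  have hTsplit : ∀ (K : Type u) [Field K] (b : Spec (CommRingCat.of K) ⟶ Spec (CommRingCat.of R)),
      Red.IsSplitTorusWith (Fin r → ℤ) (Red.bc b T) := fun K _ b => by
    obtain ⟨e₁⟩ := nonempty_DS_iso R (Fin r → ℤ)
    obtain ⟨e₂⟩ := MultTypeBC.bc_iso b e₁
    obtain ⟨e₃⟩ := MultTypeBC.bc_DS b (Fin r → ℤ)
    exact ⟨e₂ ≪≫ e₃⟩
  have hS : Red.IsTorus (sp R (MonoidAlgebra R (Multiplicative ((Fin r → ℤ) ⧸ N)))) := isTorus_quot R N hprim
  obtain ⟨Z, _, z, hz, hzcl, hzsm⟩ := Groth.Agent.S5247.result _ (sp R A) (TorusQI.isMultTypeFT_of_isTorus hS)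
    inferInstance inferInstance (sub R N ≫ incl f)
  haveI := hz.1; haveI := hz.2.1; haveI := hzcl; haveI := hzsm
  refine ⟨Z, inferInstance, z, hz, ?_⟩
  haveI : IsAffine Z.left := isAffine_of_isAffineHom z.left
  haveI : IsAffineHom Z.hom := isAffineHom_of_isAffine _
  haveI : QuasiCompact Z.hom := inferInstance
  have hZconn : ∀ t : ↥(Spec (CommRingCat.of R)), _root_.IsConnected (Z.hom.base ⁻¹' {t}) :=
    fun t => RedRank.isConnected_centralizer hconn (sub R N ≫ incl f) hS hz t
  obtain ⟨a, ha⟩ := (hz.2.2 T (incl f)).mpr fun X' x h => by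
    rw [← Category.assoc h, ← MonObj.mul_comp, ← MonObj.mul_comp, MultTypeComm.points_comm hTm]
  haveI : IsMonHom a := MaxTorusBC.isMonHom_of_mono a z (by rw [ha]; infer_instance)
  haveI : IsClosedImmersion (incl f).left :=
    MultTypeLib.SubgroupTransporter.isClosedImmersion_of_mono hTm (incl f)
  haveI : IsClosedImmersion a.left := by
    haveI : IsClosedImmersion (a.left ≫ z.left) := by rw [← Over.comp_left, ha]; infer_instance
    exact IsClosedImmersion.of_comp a.left z.left
  haveI : Mono a := haveI : Mono a.left := inferInstance; Over.mono_of_mono_left _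
  haveI : Smooth T.hom := FixTorus.smooth_of_isTorus hT
  have hmaxt : ∀ (K : Type u) [Field K] [IsAlgClosed K] (b : Spec (CommRingCat.of K) ⟶ Spec (CommRingCat.of R)),
      AGF.IsMaxTorus ((Over.pullback b).map a) := fun K _ _ b => by
    have h := isMaxTorus_of_isMaximalTorus (MaxTorCent.isMaximalTorus_bc hmax b)
    haveI : (Over.pullback b).IsRightAdjoint := (Over.mapPullbackAdj b).isRightAdjoint
    refine ⟨inferInstance, inferInstance, h.2.2.1, fun T' _ j _ _ g hT' hg =>
      h.2.2.2 T' (j ≫ (Over.pullback b).map z) g hT' ?_⟩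
    rw [← Category.assoc, hg, ← Functor.map_comp, ha]
  letI : Algebra R k₀ := (Spec.preimage y).hom.toAlgebra
  obtain ⟨-, hay, hdim, hweyl⟩ := centralizer_fibre (k := k₀)
    f (Spec.map_preimage y) hy (isMaxTorus_of_isMaximalTorus (MaxTorCent.isMaximalTorus_bc hmax y)) mu N hN
    hS hz ha
  let by' := y
  haveI : (Over.pullback by').IsRightAdjoint := (Over.mapPullbackAdj by').isRightAdjoint
  let ay : Red.bc y T ⟶ Red.bc y Z := (Over.pullback by').map a
  haveI : IsMonHom ay := inferInstanceAs (IsMonHom ((Over.pullback by').map a))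
  haveI : IsClosedImmersion ay.left :=
    MorphismProperty.of_isPullback (P := @IsClosedImmersion) (MaxTorusBC.isPullback_map by' a) inferInstance
  obtain ⟨haT, hsT, hcT, -⟩ := torus_props hay.2.2.1
  haveI := haT; haveI := hsT; haveI := hcT
  haveI : IsAffine (Red.bc y Z).left := inferInstanceAs (IsAffine (pullback Z.hom by'))
  haveI : Smooth (Red.bc y Z).hom := inferInstanceAs (Smooth (pullback.snd Z.hom by'))
  haveI : IsReduced (Red.bc y Z).left := isReduced_of_smooth_field (Red.bc y Z).hom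
  haveI : IsReduced (Red.bc y T).left := isReduced_of_smooth_field (Red.bc y T).hom
  haveI : LocallyOfFiniteType T.hom := inferInstance
  haveI : LocallyOfFiniteType (Red.bc y T).hom := inferInstanceAs (LocallyOfFiniteType (pullback.snd T.hom by'))
  by_cases hcomm : ∀ n : 𝟙_ _ ⟶ Red.bc y Z, (∀ s ∈ rangePts ay, n⁻¹ * s * n ∈ rangePts ay) →
      ∀ s ∈ rangePts ay, Commute n s
  · -- the centraliser is the torus
    have htop : rangePts ay = ⊤ := hweyl hcomm
    obtain ⟨φ, -, hφ⟩ := SolvGrp.exists_fac_sub ay (𝟙 (Red.bc y Z)) (by rw [htop]; exact le_top)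
    haveI : IsSplitEpi ay := IsSplitEpi.mk' ⟨φ, hφ⟩
    haveI : Mono ay := inferInstanceAs (Mono ((Over.pullback by').map a))
    have hiso : IsIso ((Over.pullback by').map a) := isIso_of_mono_of_isSplitEpi ay
    obtain ⟨V, hV, hVi, -⟩ := RedRank.exists_nhd_isIso a hZconn by' hiso
    refine ⟨V, hV, fun K _ _ b ht => ?_⟩
    haveI := hVi
    have hr : Set.range b ⊆ Set.range V.ι := by
      rw [Scheme.Opens.range_ι]
      rintro _ ⟨x, rfl⟩
      haveI : Subsingleton ↥(Spec (CommRingCat.of K)) := FibDim.subsingleton_spec_field K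
      rw [Subsingleton.elim x (IsLocalRing.closedPoint K)]
      exact ht
    haveI : IsIso ((Over.pullback b).map a) := by
      have hn := MaxTorusBC.cmp_naturality (IsOpenImmersion.lift_fac V.ι b hr) a
      rw [← Iso.inv_comp_eq] at hn
      rw [← hn]
      infer_instance
    haveI : (Over.pullback b).IsRightAdjoint := (Over.mapPullbackAdj b).isRightAdjoint
    let e : Grp.mk (Red.bc b T) ≅ Grp.mk (Red.bc b Z) :=
      Grp.mkIso' (asIso ((Over.pullback b).map a))
    exact isReductiveOver_congr₀ e (isReductiveOver_torus (isTorus_bc _ hT))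
  push Not at hcomm
  obtain ⟨n, hn, s₁, hs₁, hns₁⟩ := hcomm
  refine exists_nhd_weyl a hZconn hT r (fun K _ _ b => RedRank.dim_split (hTsplit K b)) hmaxt y (hdim.trans ?_) n hn s₁ hs₁ hns₁
  rw [RedRank.dim_split (hTsplit _ y)]

end Groth.Agent.RedOpen
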