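import Groth.Agent.RedOpen.SmoothNhd

/-!
# An affine neighbourhood with an étale cover splitting a maximal torus
-/

universe u

open CategoryTheory CategoryTheory.Limits MonoidalCategory CartesianMonoidalCategory MonObj AlgebraicGeometry

set_option backward.isDefEq.respectTransparency false
set_option backward.isDefEq.respectTransparency.types false
set_option linter.style.haveILetI false
set_option synthInstance.maxHeartbeats 200000
set_option maxHeartbeats 2000000
set_option autoImplicit false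

namespace Groth.Agent.RedOpen

open GrpSchLib

/-- Over an affine base: a basic neighbourhood with an affine étale cover. -/
theorem exists_affine_cover {R : Type u} [CommRing R] {G₁ : Over (Spec (CommRingCat.of R))} [GrpObj G₁]
    [IsAffineHom G₁.hom] [Smooth G₁.hom]
    (hconn : ∀ t, _root_.IsConnected (G₁.hom.base ⁻¹' {t})) (s₁ : ↥(Spec (CommRingCat.of R)))
    (h₁ : Red.IsReductiveOver (AlgebraicClosure ((Spec (CommRingCat.of R)).residueField s₁)) (Red.geomFibre s₁ G₁)) :
    ∃ (A : Type u) (_ : CommRing A) (u' : Spec (CommRingCat.of A) ⟶ Spec (CommRingCat.of R)),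
      IsOpenImmersion u' ∧ s₁ ∈ Set.range u'.base ∧
      ∃ (B : Type u) (_ : CommRing B) (v' : Spec (CommRingCat.of B) ⟶ Spec (CommRingCat.of A)),
        Etale v' ∧ Surjective v' ∧
        (∀ a : ↥(Spec (CommRingCat.of A)),
          Red.IsReductiveOver (AlgebraicClosure ((Spec (CommRingCat.of A)).residueField a))
            (Red.bc (Red.geomPt a ≫ u') G₁)) ∧
        ∃ (T : Over (Spec (CommRingCat.of B))) (_ : GrpObj T) (i : T ⟶ Red.bc (v' ≫ u') G₁),
          Red.IsMaximalTorus i ∧ ∃ r : ℕ, Red.IsSplitTorusWith (Fin r → ℤ) T := by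
  obtain ⟨B, _, v, hv, hs₁v, hred, T, _, i, hi, r, hsplit⟩ := exists_etale_nhd hconn s₁ h₁
  haveI := hv
  obtain ⟨_, ⟨g, rfl⟩, hsg, hgv⟩ := PrimeSpectrum.isTopologicalBasis_basic_opens.exists_subset_of_mem_open
    hs₁v v.isOpenMap.isOpen_range
  let u' : Spec (CommRingCat.of (Localization.Away g)) ⟶ Spec (CommRingCat.of R) :=
    Spec.map (CommRingCat.ofHom (algebraMap R (Localization.Away g)))
  haveI : IsOpenImmersion u' := IsOpenImmersion.of_isLocalization g
  have hu' : Set.range u' = ((PrimeSpectrum.basicOpen g : TopologicalSpace.Opens (PrimeSpectrum R)) : Set (PrimeSpectrum R)) :=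
    PrimeSpectrum.localization_away_comap_range (Localization.Away g) g
  let P := pullback v u'
  let e := P.isoSpec
  let p : Spec (CommRingCat.of Γ(P, ⊤)) ⟶ Spec (CommRingCat.of B) := e.inv ≫ pullback.fst v u'
  let v' : Spec (CommRingCat.of Γ(P, ⊤)) ⟶ Spec (CommRingCat.of (Localization.Away g)) :=
    e.inv ≫ pullback.snd v u'
  have hpv : p ≫ v = v' ≫ u' := by
    simp only [p, v', Category.assoc, pullback.condition]
  haveI : Etale v' := inferInstanceAs (Etale (e.inv ≫ pullback.snd v u'))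
  haveI hsv : Surjective v' := by
    refine ⟨fun a => ?_⟩
    obtain ⟨x, hx⟩ := hgv (hu' ▸ Set.mem_range_self a)
    obtain ⟨q, -, hq⟩ := Scheme.Pullback.exists_preimage_pullback (f := v) (g := u') x a hx
    refine ⟨e.hom q, ?_⟩
    show (e.inv ≫ pullback.snd v u') (e.hom q) = a
    have h2 : (e.hom ≫ e.inv ≫ pullback.snd v u') q = a := by rw [Iso.hom_inv_id_assoc]; exact hq
    exact h2
  refine ⟨Localization.Away g, inferInstance, u', inferInstance, hu'.symm ▸ hsg, Γ(P, ⊤), inferInstance, v',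
    inferInstance, hsv, fun a => ?_, ?_⟩
  · obtain ⟨σ, hσ⟩ := RedRank.exists_lift_geomPt v' a (hsv.surj a)
    obtain ⟨f₁⟩ := MultTypeBC.bc_congr
      (show (σ ≫ p) ≫ v = Red.geomPt a ≫ u' by rw [Category.assoc, hpv, ← Category.assoc, hσ]) G₁
    exact SolvGrp.isReductiveOver_congr₀ f₁ (hred _ (σ ≫ p))
  · haveI := hi.1
    haveI := hi.2.1
    haveI : (Over.pullback p).IsRightAdjoint := (Over.mapPullbackAdj p).isRightAdjoint
    haveI : Smooth (Red.bc v G₁).hom := inferInstanceAs (Smooth (pullback.snd G₁.hom v))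
    haveI : IsAffineHom (Red.bc v G₁).hom := MorphismProperty.pullback_snd (P := @IsAffineHom) _ _ inferInstance
    refine ⟨Red.bc p T, inferInstance, (Over.pullback p).map i ≫ (GrpLimLib.cmp hpv G₁).hom,
      MaxTorCent.isMaximalTorus_comp_iso (MaxTorCent.isMaximalTorus_bc hi p) (GrpLimLib.cmp hpv G₁).hom, r, ?_⟩
    obtain ⟨g₁⟩ := hsplit
    obtain ⟨g₂⟩ := MultTypeBC.bc_iso p g₁
    obtain ⟨g₃⟩ := MultTypeBC.bc_DS p (Fin r → ℤ)
    exact ⟨g₂ ≪≫ g₃⟩

end Groth.Agent.RedOpen
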