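import Groth.Agent.RedOpen.WeightDeriv
import Groth.Agent.RedRank.CentreLocal
import Groth.Agent.SolvGrp.BC
import Groth.Agent.GrpSchLib.SplitTorusPoints
import Groth.Agent.GrpSchLib.SmoothReduced
import Groth.Agent.S0348
import Mathlib.RingTheory.FiniteType

/-!
# A normal subgroup of a geometric fibre meets the centraliser of a corank one subtorus

A non-trivial normal subgroup of a geometric fibre has a tangent vector centralised by the subgroup of the
torus cut out by one of finitely many characters, the weights of a system of generators.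
-/

universe u

open CategoryTheory CategoryTheory.Limits MonoidalCategory CartesianMonoidalCategory MonObj AlgebraicGeometry
open TensorProduct WithConv

set_option backward.isDefEq.respectTransparency false
set_option backward.isDefEq.respectTransparency.types false
set_option linter.style.haveILetI false
set_option synthInstance.maxHeartbeats 200000
set_option maxHeartbeats 1000000
set_option autoImplicit false

namespace Groth.Agent.RedOpen

open GrpSchLib GrpSchLib.AffineHopf RedRank.CentreWeights RedRank.CentreLocal AVTors SolvGrp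

variable {R : Type u} [CommRing R] {k : Type u} [Field k] [Algebra R k]

/-- The point of `Spec k` over the base. -/
noncomputable abbrev basePt (R k : Type u) [CommRing R] [Field k] [Algebra R k] :
    Spec (CommRingCat.of k) ⟶ Spec (CommRingCat.of R) :=
  Spec.map (CommRingCat.ofHom (algebraMap R k))

/-- A spectrum over `k`, seen over the base. -/
noncomputable def spDown (B : Type u) [CommRing B] [Algebra k B] [Algebra R B] [IsScalarTower R k B] :
    (Over.map (basePt R k)).obj (sp k B) ≅ sp R B :=
  Over.isoMk (Iso.refl (Spec (CommRingCat.of B))) (by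
    show 𝟙 _ ≫ Spec.map (CommRingCat.ofHom (algebraMap R B)) =
      Spec.map (CommRingCat.ofHom (algebraMap k B)) ≫ Spec.map (CommRingCat.ofHom (algebraMap R k))
    rw [Category.id_comp, ← Spec.map_comp, ← CommRingCat.ofHom_comp, ← IsScalarTower.algebraMap_eq])

/-- The points of the base change with values in a `k`-algebra. -/
noncomputable def cls {A : Type u} [CommRing A] [HopfAlgebra R A] {B : Type u} [CommRing B] [Algebra k B]
    [Algebra R B] [IsScalarTower R k B] :
    WithConv (A →ₐ[R] B) ≃* (sp k B ⟶ Red.bc (basePt R k) (sp R A)) :=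
  (MulEquiv.mk ⟨fun a => (spDown B).hom ≫ spMap a.ofConv,
      fun x => toConv (Spec.mapMulEquiv.symm ((spDown B).inv ≫ x)).ofConv,
      fun a => by
        simp only [Iso.inv_hom_id_assoc]
        exact congrArg (fun z => toConv (WithConv.ofConv z)) (Spec.mapMulEquiv.symm_apply_apply a),
      fun x => by
        obtain ⟨φ, hφ⟩ := exists_eq_spMap ((spDown B).inv ≫ x)
        show (spDown B).hom ≫ spMap (Spec.mapMulEquiv.symm ((spDown B).inv ≫ x)).ofConv = x
        rw [hφ, show Spec.mapMulEquiv.symm (spMap φ) = toConv φ from Spec.mapMulEquiv.symm_apply_apply (toConv φ)]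
        show (spDown B).hom ≫ spMap φ = x
        rw [← hφ, Iso.hom_inv_id_assoc]⟩
    fun a b => by
      show (spDown B).hom ≫ spMap (a * b).ofConv = ((spDown B).hom ≫ spMap a.ofConv) * ((spDown B).hom ≫ spMap b.ofConv)
      rw [← MonObj.comp_mul, spMap_mul]
      ).trans (bcPts (basePt R k) (sp k B) (sp R A))

theorem cls_apply {A : Type u} [CommRing A] [HopfAlgebra R A] {B : Type u} [CommRing B] [Algebra k B]
    [Algebra R B] [IsScalarTower R k B] (a : A →ₐ[R] B) :
    cls (k := k) (toConv a) = bcPts (basePt R k) (sp k B) (sp R A) ((spDown B).hom ≫ spMap a) := rfl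

/-- Naturality of the points in the algebra. -/
theorem spMap_comp_cls {A : Type u} [CommRing A] [HopfAlgebra R A] {B B' : Type u} [CommRing B] [Algebra k B]
    [Algebra R B] [IsScalarTower R k B] [CommRing B'] [Algebra k B'] [Algebra R B'] [IsScalarTower R k B']
    (φ : B →ₐ[k] B') (a : A →ₐ[R] B) :
    spMap φ ≫ cls (toConv a) = cls (k := k) (toConv ((φ.restrictScalars R).comp a)) := by
  rw [cls_apply, cls_apply, ← bcPts_comp_left, ← spMap_comp, ← Category.assoc]
  congr 1

/-- Naturality of the points in the group. -/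
theorem cls_comp_map {A A' : Type u} [CommRing A] [HopfAlgebra R A] [CommRing A'] [HopfAlgebra R A'] {B : Type u}
    [CommRing B] [Algebra k B] [Algebra R B] [IsScalarTower R k B] (g : A' →ₐ[R] A) (a : A →ₐ[R] B) :
    cls (toConv a) ≫ (Over.pullback (basePt R k)).map (spMap g) = cls (k := k) (toConv (a.comp g)) := by
  rw [cls_apply, cls_apply, ← bcPts_comp, Category.assoc, spMap_comp]

variable {A : Type u} [CommRing A] [HopfAlgebra R A] {M : Type} [AddCommGroup M]
  (f : A →ₐc[R] MonoidAlgebra R (Multiplicative M))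

/-- A non-trivial smooth connected normal subgroup of a fibre has a tangent vector fixed by the part of the
torus cut out by one of the weights of the generators. -/
theorem exists_centralized_tangent (s : Finset A) (hs : Algebra.adjoin R (s : Set A) = ⊤)
    {U : Over (Spec (CommRingCat.of k))} [GrpObj U] (i : U ⟶ Red.bc (basePt R k) (sp R A)) [IsMonHom i]
    [IsClosedImmersion i.left] [Smooth U.hom] [ConnectedSpace U.left] (hnorm : AlgGrp.IsNormalHom i)
    (hU : ¬ Red.IsTrivialGrp U) :
    ∃ m : M, (∃ a ∈ s, RedRank.CentreWeights.comp f (Multiplicative.ofAdd m) a ≠ 0) ∧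
      ∃ x : sp k (DualNumber k) ⟶ U, x ≫ i ≠ 1 ∧ ∀ N : AddSubgroup M, m ∈ N →
        ∀ (X' : Over (Spec (CommRingCat.of k))) (y : X' ⟶ sp k (DualNumber k))
          (h : X' ⟶ Red.bc (basePt R k) (sp R (MonoidAlgebra R (Multiplicative (M ⧸ N))))),
          (y ≫ x ≫ i) * (h ≫ (Over.pullback (basePt R k)).map (sub R N ≫ incl f)) =
            (h ≫ (Over.pullback (basePt R k)).map (sub R N ≫ incl f)) * (y ≫ x ≫ i) := by
  classical
  haveI : IsAffine (sp R A).left := inferInstanceAs (IsAffine (Spec _))
  haveI : IsAffine (Red.bc (basePt R k) (sp R A)).left := inferInstanceAs (IsAffine (pullback (sp R A).hom (basePt R k)))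
  haveI : IsAffine U.left := isAffine_of_isAffineHom i.left
  obtain ⟨C, _, _, ⟨e⟩⟩ := exists_hopf U
  letI : Algebra R C := ((algebraMap k C).comp (algebraMap R k)).toAlgebra
  haveI : IsScalarTower R k C := IsScalarTower.of_algebraMap_eq fun _ => rfl
  haveI : IsMonHom e.hom.hom.hom := e.hom.hom.isMonHom_hom
  haveI : IsIso e.hom.hom.hom := ((Grp.forget _).mapIso e).isIso_hom
  haveI : IsIso e.hom.hom.hom.left := Functor.map_isIso (Over.forget _) e.hom.hom.hom
  let i' : sp k C ⟶ Red.bc (basePt R k) (sp R A) := e.hom.hom.hom ≫ i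
  haveI : IsMonHom i' := inferInstanceAs (IsMonHom (e.hom.hom.hom ≫ i))
  haveI : IsClosedImmersion i'.left := inferInstanceAs (IsClosedImmersion (e.hom.hom.hom.left ≫ i.left))
  obtain ⟨π', hπ'⟩ := (cls (k := k) (A := A) (B := C)).surjective i'
  obtain ⟨π, rfl⟩ : ∃ π, π' = toConv π := ⟨π'.ofConv, rfl⟩
  -- generation
  have hgen : Algebra.adjoin k (Set.range π) = ⊤ := by
    let C₀ : Subalgebra k C := Algebra.adjoin k (Set.range π)
    let π₀ : A →ₐ[R] C₀ := AlgHom.codRestrict π (C₀.restrictScalars R) fun a => Algebra.subset_adjoin ⟨a, rfl⟩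
    have hi : spMap C₀.val ≫ cls (toConv π₀) = i' := by
      rw [← hπ', spMap_comp_cls]
      rfl
    haveI : IsAffine (sp k C₀).left := inferInstanceAs (IsAffine (Spec _))
    haveI : IsClosedImmersion (spMap C₀.val).left := by
      haveI : IsClosedImmersion ((spMap C₀.val).left ≫ (cls (k := k) (toConv π₀)).left) := by
        rw [← Over.comp_left, hi]; infer_instance
      exact IsClosedImmersion.of_comp _ (cls (k := k) (toConv π₀)).left
    haveI : IsClosedImmersion (Spec.map (CommRingCat.ofHom C₀.val.toRingHom)) := ‹IsClosedImmersion (spMap C₀.val).left›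
    have hsurj : Function.Surjective C₀.val := by
      have h := (IsClosedImmersion.isAffine_surjective_of_isAffine (Spec.map (CommRingCat.ofHom C₀.val.toRingHom))).2
      intro c
      obtain ⟨z, hz⟩ := h ((Scheme.ΓSpecIso (CommRingCat.of C)).inv c)
      refine ⟨(Scheme.ΓSpecIso (CommRingCat.of C₀)).hom z, ?_⟩
      have e1 := ConcreteCategory.congr_hom (Scheme.ΓSpecIso_naturality (CommRingCat.ofHom C₀.val.toRingHom)) z
      rw [CommRingCat.comp_apply, CommRingCat.comp_apply, hz] at e1
      refine e1.symm.trans ?_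
      exact Iso.inv_hom_id_apply (Scheme.ΓSpecIso (CommRingCat.of C)) c
    refine top_le_iff.mp fun c _ => ?_
    obtain ⟨c', rfl⟩ := hsurj c
    exact c'.2
  haveI : Algebra.FiniteType k C := by
    refine ⟨⟨s.image π, ?_⟩⟩
    rw [← top_le_iff, ← hgen]
    refine Algebra.adjoin_le ?_
    rintro _ ⟨a, rfl⟩
    have h1 : (⊤ : Subalgebra R A) ≤ ((Algebra.adjoin k ((s.image π : Finset C) : Set C)).restrictScalars R).comap π :=
      hs ▸ Algebra.adjoin_le fun b hb => Algebra.subset_adjoin (Finset.mem_image_of_mem π hb)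
    exact h1 Algebra.mem_top
  haveI : IsNoetherianRing C := Algebra.FiniteType.isNoetherianRing k C
  -- a domain
  haveI : IsReduced U.left := isReduced_of_smooth_field U.hom
  haveI : IrreducibleSpace U.left := Groth.Agent.S0348.result k U
  haveI : IsIntegral U.left := isIntegral_of_irreducibleSpace_of_isReduced U.left
  haveI : IsDomain C := by
    haveI : Nonempty ↥(Spec (CommRingCat.of C)) := ⟨(η[sp k C] : _ ⟶ sp k C).left (IsLocalRing.closedPoint k)⟩
    haveI : IsIntegral (Spec (CommRingCat.of C)) := isIntegral_of_isOpenImmersion (show Spec (CommRingCat.of C) ⟶ U.left from e.hom.hom.hom.left)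
    exact (affine_isIntegral_iff (CommRingCat.of C)).mp inferInstance
  -- the unit point
  obtain ⟨εC, hεC'⟩ := SplitTorusPoints.exists_eq_spMap' (1 : sp k k ⟶ sp k C)
  have hεC : ∀ a, εC (π a) = algebraMap R k (Bialgebra.counitAlgHom R A a) := fun a => by
    have h : cls (k := k) (toConv ((εC.restrictScalars R).comp π)) = 1 := by
      rw [← spMap_comp_cls, hπ', ← hεC', MonObj.one_comp]
    rw [← map_one (cls (k := k) (A := A) (B := k)), EquivLike.apply_eq_iff_eq] at h
    have h2 := congrArg (fun z => z.ofConv a) h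
    simpa [AlgHom.convOne_apply] using h2
  have hεinj : ¬ Function.Injective εC := fun h => hU (by
    show IsIso U.hom
    have hbij : Function.Bijective (algebraMap k C) :=
      ⟨(algebraMap k C).injective, fun c => ⟨εC c, h (by simp)⟩⟩
    haveI : IsIso (CommRingCat.ofHom (algebraMap k C)) := (RingEquiv.ofBijective _ hbij).toCommRingCatIso.isIso_hom
    haveI : IsIso (sp k C).hom := inferInstanceAs (IsIso (Spec.map (CommRingCat.ofHom (algebraMap k C))))
    haveI : IsIso (e.hom.hom.hom.left ≫ U.hom) := by rw [Over.w]; infer_instance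
    exact IsIso.of_isIso_comp_left e.hom.hom.hom.left U.hom)
  -- the coaction on the subgroup
  let Λ := Multiplicative M
  let inc : C →ₐ[k] MonoidAlgebra C Λ := MonoidAlgebra.singleOneAlgHom
  let un : WithConv (A →ₐ[R] MonoidAlgebra C Λ) := pull f (MonoidAlgebra.of C Λ)
  obtain ⟨n, hn⟩ := hnorm _ (cls (k := k) un) (spMap inc ≫ e.hom.hom.hom)
  obtain ⟨Ψ, hΨ'⟩ := SplitTorusPoints.exists_eq_spMap' (n ≫ inv e.hom.hom.hom)
  have hΨ : ∀ a m, (Ψ (π a)).coeff m = π (RedRank.CentreWeights.comp f m a) := by
    intro a m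
    have h1 : cls (k := k) (toConv ((Ψ.restrictScalars R).comp π)) =
        cls (k := k) (conj f (MonoidAlgebra.of C Λ) (toConv ((inc.restrictScalars R).comp π))) := by
      rw [← spMap_comp_cls, hπ', ← hΨ', conj, map_mul, map_mul, ← spMap_comp_cls, hπ']
      have hinv : cls (k := k) (pull f (inv' (MonoidAlgebra.of C Λ))) = (cls (k := k) un)⁻¹ := by
        rw [eq_inv_iff_mul_eq_one, ← map_mul, pull_inv'_mul, map_one]
      rw [hinv]
      simp only [i', Category.assoc, IsIso.inv_hom_id_assoc] at hn ⊢
      exact hn.symm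
    rw [EquivLike.apply_eq_iff_eq] at h1
    have h2 := congrArg (fun z => (z.ofConv a).coeff m) h1
    simp only [conj_apply] at h2
    refine h2.trans ?_
    have e2 : ((coact f a).coeff.sum fun l r => ((inc.restrictScalars R).comp π) r * (MonoidAlgebra.of C Λ) l) =
        (coact f a).coeff.sum fun l r => MonoidAlgebra.single l (π r) :=
      Finsupp.sum_congr fun l _ => by
        show MonoidAlgebra.single 1 (π _) * MonoidAlgebra.single l 1 = _
        rw [MonoidAlgebra.single_mul_single, _root_.one_mul, _root_.mul_one]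
    rw [e2, coeff_sum_single _ _ (map_zero π)]
    rfl
  obtain ⟨m, hm, g, ⟨a₀, ha₀⟩, hfix⟩ := exists_weight_tangent f π hgen εC hεC hεinj Ψ hΨ (s : Set A) hs
  refine ⟨Multiplicative.toAdd m, hm, spMap g ≫ e.hom.hom.hom, fun h => ha₀ ?_, fun N hN X' y h => ?_⟩
  · rw [Category.assoc, show e.hom.hom.hom ≫ i = i' from rfl, ← hπ', spMap_comp_cls,
      ← map_one (cls (k := k) (A := A) (B := DualNumber k)), EquivLike.apply_eq_iff_eq] at h
    have h2 := congrArg (fun z => z.ofConv a₀) h
    simpa [AlgHom.convOne_apply] using h2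
  refine eq_of_affine (R := k) _ _ fun B _ _ x => ?_
  letI : Algebra R B := ((algebraMap k B).comp (algebraMap R k)).toAlgebra
  haveI : IsScalarTower R k B := IsScalarTower.of_algebraMap_eq fun _ => rfl
  obtain ⟨ε', hε'⟩ := SplitTorusPoints.exists_eq_spMap' (x ≫ y)
  obtain ⟨b', hb'⟩ := (cls (k := k) (B := B)).surjective (x ≫ h)
  obtain ⟨b, rfl⟩ : ∃ b, b' = toConv b := ⟨b'.ofConv, rfl⟩
  let T : MonoidAlgebra R Λ →ₐ[R] B :=
    b.comp (qMap R N : MonoidAlgebra R (Multiplicative M) →ₐ[R] MonoidAlgebra R (Multiplicative (M ⧸ N)))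
  let χ : Λ →* B := (MonoidAlgebra.lift R B Λ).symm T
  have hxy : x ≫ y ≫ (spMap g ≫ e.hom.hom.hom) ≫ i =
      cls (k := k) (toConv (((ε'.comp g).restrictScalars R).comp π)) := by
    rw [← spMap_comp_cls, hπ', ← spMap_comp, ← hε']
    simp only [i', Category.assoc]
  have hxh : x ≫ h ≫ (Over.pullback (basePt R k)).map (sub R N ≫ incl f) = cls (k := k) (pull f χ) := by
    rw [← Category.assoc, ← hb', show sub R N ≫ incl f = spMap _ from spMap_comp _ _, cls_comp_map]
    exact congrArg _ (comp_f_eq f T).symm
  rw [MonObj.comp_mul, MonObj.comp_mul, hxy, hxh, ← map_mul, ← map_mul]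
  have hχ : χ m = 1 := by
    show b (qMap R N (MonoidAlgebra.single (Multiplicative.ofAdd (Multiplicative.toAdd m)) 1)) = 1
    rw [qMap_single, show QuotientAddGroup.mk' N (Multiplicative.toAdd m) = 0 from (QuotientAddGroup.eq_zero_iff _).mpr hN]
    exact map_one b
  exact congrArg _ ((conj_eq_iff f χ _).mp (hfix B ε' χ hχ)).symm.eq

end Groth.Agent.RedOpen
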