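import Groth.Agent.AGFLib.Hull
import Groth.Agent.AGFLib.GenSubgroup
import Groth.Agent.H23.TopDim
import Groth.Agent.VarDim.Basic
import Groth.Agent.SolvGrp.NormUnip
import Mathlib.RingTheory.Ideal.KrullsHeightTheorem

/-!
# The zero set of a function on an affine variety has codimension one
-/

set_option backward.isDefEq.respectTransparency false
set_option backward.isDefEq.respectTransparency.types false
set_option linter.style.haveILetI false
set_option autoImplicit false

universe u

open CategoryTheory MonoidalCategory CartesianMonoidalCategory AlgebraicGeometry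

namespace Groth.Agent.RedOpen

open AGFLib AGFLib.Gen GrpSchLib.LineGroups GrpSchLib.Kunneth

variable {k : Type u} [Field k]

local notation "PT" => 𝟙_ (Over (Spec (CommRingCat.of k)))

section Krull

variable {X : Over (Spec (CommRingCat.of k))} [IsAffine X.left] [LocallyOfFiniteType X.hom] [IsReduced X.left]
  [IrreducibleSpace X.left]

/-- The zero set of a non-zero non-unit function has codimension one, attained by an irreducible piece. -/
theorem dim_zeroSet (f : Fn X) (hne : f ≠ 0) {Z : Set X.left} (hZ : Z = (X.left.basicOpen f : Set X.left)ᶜ)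
    (hZne : Z.Nonempty) : ∃ n : ℕ, topologicalKrullDim ↥X.left = ((n + 1 : ℕ) : WithBot ℕ∞) ∧
      topologicalKrullDim ↥Z = (n : WithBot ℕ∞) ∧
      ∃ W : Set X.left, IsClosed W ∧ IsIrreducible W ∧ W ⊆ Z ∧ topologicalKrullDim ↥W = (n : WithBot ℕ∞) := by
  haveI : IsIntegral X.left := isIntegral_of_irreducibleSpace_of_isReduced _
  haveI := AGFLib.finiteType_fn X
  haveI : IsDomain (Fn X) := inferInstanceAs (IsDomain Γ(X.left, ⊤))
  haveI : IsNoetherianRing (Fn X) := Algebra.FiniteType.isNoetherianRing k _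
  obtain ⟨N, hN, -⟩ := VarDim.exists_dim_eq_trdeg k (Fn X)
  let e : X.left ≃ₜ PrimeSpectrum (Fn X) := X.left.isoSpec.hom.homeomorph
  have hdim : topologicalKrullDim ↥X.left = (N : WithBot ℕ∞) := by
    rw [IsHomeomorph.topologicalKrullDim_eq _ e.isHomeomorph, PrimeSpectrum.topologicalKrullDim_eq_ringKrullDim, hN]
  have hmem : ∀ x, x ∈ Z ↔ f ∈ (e x).asIdeal := fun x => by
    have h : x ∈ X.left.basicOpen f ↔ f ∉ (e x).asIdeal := by
      rw [← Scheme.toSpecΓ_preimage_basicOpen]
      rfl
    rw [hZ, Set.mem_compl_iff, SetLike.mem_coe, h, not_not]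
  obtain ⟨x₀, hx₀⟩ := hZne
  have hnu : ¬ IsUnit f := fun hu => (e x₀).isPrime.ne_top (Ideal.eq_top_of_isUnit_mem _ ((hmem x₀).mp hx₀) hu)
  obtain ⟨P, hP, -⟩ := Ideal.exists_minimalPrimes_le
    (I := Ideal.span {f}) (J := (e x₀).asIdeal) ((Ideal.span_singleton_le_iff_mem _).mpr ((hmem x₀).mp hx₀))
  haveI hPp : P.IsPrime := hP.1.1
  have hfP : f ∈ P := (Ideal.span_singleton_le_iff_mem _).mp hP.1.2
  let p : PrimeSpectrum (Fn X) := ⟨P, hPp⟩
  have hh1 : Order.height p ≤ 1 := by
    have h := Ideal.height_le_one_of_isPrincipal_of_mem_minimalPrimes (Ideal.span {f}) P hP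
    rwa [← PrimeSpectrum.height_eq_orderHeight p]
  have hh0 : Order.height p ≠ 0 := by
    rw [Ne, Order.height_eq_zero]
    intro h
    have h2 : (⊥ : PrimeSpectrum (Fn X)) = p := le_antisymm bot_le (h bot_le)
    exact hne (by
      have h3 : f ∈ (⊥ : PrimeSpectrum (Fn X)).asIdeal := h2 ▸ hfP
      exact Ideal.mem_bot.mp h3)
  have hsum := VarDim.height_add_coheight_eq k N (Fn X) hN p
  have hh : Order.height p = 1 := le_antisymm hh1 (ENat.one_le_iff_ne_zero.mpr hh0)
  rw [hh] at hsum
  obtain ⟨n, rfl⟩ : ∃ n, N = n + 1 := by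
    refine Nat.exists_eq_succ_of_ne_zero fun h0 => ?_
    rw [h0] at hsum
    simp at hsum
  have hco : Order.coheight p = (n : ℕ∞) := by
    rw [Nat.cast_succ, add_comm (n : ℕ∞) 1] at hsum
    exact WithTop.add_left_cancel (by simp) hsum
  let W : Set X.left := e ⁻¹' PrimeSpectrum.zeroLocus (P : Set (Fn X))
  have hWc : IsClosed W := (PrimeSpectrum.isClosed_zeroLocus _).preimage e.continuous
  have hWZ : W ⊆ Z := fun x hx => (hmem x).mpr (hx hfP)
  have hWi : IsIrreducible W := by
    have h := ((PrimeSpectrum.isIrreducible_zeroLocus_iff P).mpr (by rw [hPp.radical]; exact hPp)).image e.symm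
      e.symm.continuous.continuousOn
    rwa [Homeomorph.image_symm] at h
  have hWd : topologicalKrullDim ↥W = (n : WithBot ℕ∞) := by
    let q := Ideal.Quotient.mk P
    have hq := PrimeSpectrum.isClosedEmbedding_comap_of_surjective _ q Ideal.Quotient.mk_surjective
    have hr : Set.range (PrimeSpectrum.comap q) = PrimeSpectrum.zeroLocus (P : Set (Fn X)) := by
      rw [range_comap_of_surjective _ q Ideal.Quotient.mk_surjective, Ideal.mk_ker]
    let h₁ : PrimeSpectrum (Fn X ⧸ P) ≃ₜ ↥(PrimeSpectrum.zeroLocus (P : Set (Fn X))) :=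
      hq.isEmbedding.toHomeomorph.trans (Homeomorph.setCongr hr)
    let h₂ : ↥W ≃ₜ ↥(PrimeSpectrum.zeroLocus (P : Set (Fn X))) := e.sets rfl
    rw [IsHomeomorph.topologicalKrullDim_eq _ (h₂.trans h₁.symm).isHomeomorph,
      PrimeSpectrum.topologicalKrullDim_eq_ringKrullDim, ← VarDim.coheight_eq_ringKrullDim_quotient p, hco]
    rfl
  have hZc : IsClosed Z := hZ ▸ (X.left.basicOpen f).isOpen.isClosed_compl
  have hZu : Z ≠ Set.univ := by
    intro h
    refine hne ((AlgebraicGeometry.basicOpen_eq_bot_iff f).mp ?_)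
    rw [eq_bot_iff]
    intro x hx
    have hx' : x ∈ Z := by rw [h]; trivial
    rw [hZ] at hx'
    exact (hx' hx).elim
  have hlt := H23.TopDim.dim_lt_of_ssubset (X := ↥X.left)
    (by rw [hdim]; exact fun h => ENat.coe_ne_top _ (WithBot.coe_injective h)) hZc hZu
  have hle : (n : WithBot ℕ∞) ≤ topologicalKrullDim ↥Z := hWd ▸ H23.TopDim.dim_le_dim_of_subset hWZ
  refine ⟨n, hdim, le_antisymm ?_ hle, W, hWc, hWi, hWZ, hWd⟩
  rw [hdim] at hlt
  generalize topologicalKrullDim ↥Z = z at hlt hle ⊢
  cases z with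
  | bot => exact bot_le
  | coe z =>
    have h1 : z < ((n + 1 : ℕ) : ℕ∞) := WithBot.coe_lt_coe.mp hlt
    refine WithBot.coe_le_coe.mpr ?_
    rw [Nat.cast_succ] at h1
    exact (ENat.lt_add_one_iff (ENat.coe_ne_top n)).mp h1

end Krull

/-- Closed subsets of a scheme of finite type are determined by their rational points. -/
theorem subset_of_cp [IsAlgClosed k] {X : Over (Spec (CommRingCat.of k))} [LocallyOfFiniteType X.hom] {A B : Set X.left}
    (hA : IsClosed A) (hB : IsClosed B) (h : ∀ g : PT ⟶ X, cp g ∈ A → cp g ∈ B) : A ⊆ B := by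
  haveI : JacobsonSpace X.left := LocallyOfFiniteType.jacobsonSpace X.hom
  intro x hx
  by_contra hxB
  obtain ⟨y, ⟨hyA, hyB⟩, hy⟩ := nonempty_inter_closedPoints (Z := A ∩ Bᶜ) ⟨x, hx, hxB⟩
    (hA.isLocallyClosed.inter hB.isOpen_compl.isLocallyClosed)
  obtain ⟨g, rfl⟩ := exists_cp hy
  exact hyB (h g hyA)

/-- The dimension of a connected smooth affine group is a natural number. -/
theorem exists_dim [IsAlgClosed k] (G : Over (Spec (CommRingCat.of k))) [GrpObj G] [IsAffine G.left] [Smooth G.hom]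
    [ConnectedSpace G.left] : ∃ d : ℕ, topologicalKrullDim ↥G.left = d := by
  haveI : IsReduced G.left := GrpSchLib.isReduced_of_smooth_field G.hom
  haveI : IrreducibleSpace G.left := Groth.Agent.S0348.result k G
  haveI : IsIntegral G.left := isIntegral_of_irreducibleSpace_of_isReduced _
  haveI := AGFLib.finiteType_fn G
  haveI : IsDomain (Fn G) := inferInstanceAs (IsDomain Γ(G.left, ⊤))
  obtain ⟨n, hn, -⟩ := VarDim.exists_dim_eq_trdeg k (Fn G)
  refine ⟨n, ?_⟩
  rw [IsHomeomorph.topologicalKrullDim_eq _ G.left.isoSpec.hom.homeomorph.isHomeomorph,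
    show topologicalKrullDim (Spec Γ(G.left, ⊤)) = ringKrullDim (Fn G) from
      PrimeSpectrum.topologicalKrullDim_eq_ringKrullDim _, hn]

/-- A proper closed subscheme of a connected smooth affine group has smaller dimension. -/
theorem dim_lt [IsAlgClosed k] {C G : Over (Spec (CommRingCat.of k))} [GrpObj G] [IsAffine G.left] [Smooth G.hom]
    [ConnectedSpace G.left] (c : C ⟶ G) [IsClosedImmersion c.left] (hne : Set.range c.left ≠ Set.univ) :
    topologicalKrullDim ↥C.left < topologicalKrullDim ↥G.left := by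
  haveI : IrreducibleSpace G.left := Groth.Agent.S0348.result k G
  obtain ⟨d, hd⟩ := exists_dim G
  exact SolvGrp.NormUnip.topologicalKrullDim_lt_of_ne c.left hne
    (by rw [hd]; exact fun h => ENat.coe_ne_top d (WithBot.coe_injective h))

end Groth.Agent.RedOpen
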