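import Groth.Agent.SolvGrp.NormUnip
import Groth.Agent.RedOpen.Krull
import Groth.Agent.SolvGrp.Reductive2
import Groth.Agent.RedRank.TorusDim

/-!
# Non-solvable groups of semisimple rank one are reductive
-/

set_option backward.isDefEq.respectTransparency false
set_option backward.isDefEq.respectTransparency.types false
set_option linter.style.haveILetI false
set_option autoImplicit false

universe u

open CategoryTheory MonoidalCategory CartesianMonoidalCategory MonObj AlgebraicGeometry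
open scoped commutatorElement

namespace Groth.Agent.RedOpen

open GrpSchLib GrpSchLib.Kunneth GrpSchLib.LineGroups WeilCmp.Unip AGFLib AGFLib.Gen AGFLib.BorelFixed SolvGrp
open AGFLib.BorelExist

variable {k : Type u} [Field k] [IsAlgClosed k]

local notation "PT" => 𝟙_ (Over (Spec (CommRingCat.of k)))

variable {G T : Over (Spec (CommRingCat.of k))} [GrpObj G] [GrpObj T] [IsAffine G.left] [Smooth G.hom]
  [ConnectedSpace G.left]

/-- In a connected solvable subgroup a point normalising a torus centralises it. -/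
theorem commute_of_solvable {B : Over (Spec (CommRingCat.of k))} [GrpObj B] (iB : B ⟶ G) [IsMonHom iB]
    [IsClosedImmersion iB.left] [Smooth B.hom] [ConnectedSpace B.left] (hs : Red.IsSolvableGrp B) (iT : T ⟶ G)
    [IsMonHom iT] (hT : Red.IsTorus T) (hTB : rangePts iT ≤ rangePts iB) (n : PT ⟶ G) (hn : n ∈ rangePts iB)
    (hnT : ∀ s ∈ rangePts iT, n⁻¹ * s * n ∈ rangePts iT) : ∀ s ∈ rangePts iT, Commute n s := by
  intro s hs'
  obtain ⟨haB, hlB, -, -, hevB⟩ := sub_props iB
  haveI := haB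
  haveI := hlB
  haveI : IsReduced G.left := isReduced_of_smooth_field G.hom
  haveI : IsReduced B.left := isReduced_of_smooth_field B.hom
  haveI := isSolvable_pts hs
  obtain ⟨a, ha⟩ := hn
  obtain ⟨b, hb⟩ := hTB hs'
  change a ≫ iB = n at ha
  change b ≫ iB = s at hb
  have hc : (a⁻¹ * b * a * b⁻¹) ≫ iB = n⁻¹ * s * n * s⁻¹ := by
    simp only [MonObj.mul_comp, GrpObj.inv_comp, ha, hb]
  have hu : IsUnipPt (n⁻¹ * s * n * s⁻¹) := by
    rw [← hc]
    refine (map_isSsPt_isUnipPt iB _).2 (isUnipPt_of_commutator ?_)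
    have h := Subgroup.commutator_mem_commutator (Subgroup.mem_top a⁻¹) (Subgroup.mem_top b)
    rwa [commutatorElement_def, _root_.inv_inv] at h
  obtain ⟨t, ht⟩ := mul_mem (hnT s hs') (inv_mem hs')
  change t ≫ iT = n⁻¹ * s * n * s⁻¹ at ht
  have h1 : n⁻¹ * s * n * s⁻¹ = 1 := eq_one_of_isSsPt_isUnipPt (ht ▸ isSsPt_of_torus hT iT t) hu
  show n * s = s * n
  calc n * s = n * (n⁻¹ * s * n * s⁻¹) * s := by rw [h1, _root_.mul_one]
    _ = s * n := by group

/-- A group of semisimple rank at most one with a non-trivial Weyl element is reductive. -/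
theorem isReductiveOver_of_dim (iT : T ⟶ G) [IsMonHom iT] (hT : AGF.IsMaxTorus iT) (n : PT ⟶ G)
    (hn : ∀ s ∈ rangePts iT, n⁻¹ * s * n ∈ rangePts iT) (hn' : ∀ s ∈ rangePts iT, n * s * n⁻¹ ∈ rangePts iT)
    (hnc : ¬ ∀ s ∈ rangePts iT, Commute n s)
    (hdim : topologicalKrullDim ↥G.left ≤ topologicalKrullDim ↥T.left + 2) : Red.IsReductiveOver k G := by
  refine ⟨inferInstance, inferInstance, inferInstance, fun U _ u _ hcu hsU hcU hnorm hnt => ?_⟩
  haveI := hcu; haveI := hsU; haveI := hcU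
  haveI := hT.2.1
  haveI : IsReduced G.left := isReduced_of_smooth_field G.hom
  obtain ⟨haU, hlU, hqU, hmU, hevU⟩ := sub_props u
  haveI := haU; haveI := hlU; haveI := hqU; haveI := hmU
  haveI : IsReduced U.left := isReduced_of_smooth_field U.hom
  obtain ⟨haT, hsT, hcT, -⟩ := torus_props hT.2.2.1
  haveI := haT; haveI := hsT; haveI := hcT
  haveI : IsReduced T.left := isReduced_of_smooth_field T.hom
  haveI : IsClosedImmersion iT.left := DomHom.isClosedImmersion_of_mono iT
  obtain ⟨-, hlT, hqT, -, -⟩ := sub_props iT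
  haveI := hlT; haveI := hqT
  have hu : ∀ x : PT ⟶ U, IsUnipPt x := fun x => isUnipPt_of_hasNoSubtorus hnt x
  refine isTrivialGrp_of_pts fun x => ?_
  by_contra hx
  obtain ⟨B, _, iB, t, hB, ht⟩ := exists_borel_maxTorus iT hT
  haveI := hB.1; haveI := hB.2.1; haveI := hB.2.2.1; haveI := hB.2.2.2.1
  obtain ⟨haB, hlB, hqB, hmB, -⟩ := sub_props iB
  haveI := haB; haveI := hlB; haveI := hqB; haveI := hmB
  haveI : IsReduced B.left := isReduced_of_smooth_field B.hom
  have hTB : rangePts iT ≤ rangePts iB := by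
    rintro _ ⟨z, rfl⟩
    exact ⟨z ≫ t, by show (z ≫ t) ≫ iB = z ≫ iT; rw [Category.assoc, ht]⟩
  have hnB : n ∉ rangePts iB := fun h => hnc (commute_of_solvable iB hB.2.2.2.2.1 iT hT.2.2.1 hTB n h hn)
  obtain ⟨D, _, d, hd, hcd, hsD, hcD, hD⟩ := NormUnip.exists_join (G := G) iT u
  haveI := hd; haveI := hcd; haveI := hsD; haveI := hcD
  obtain ⟨haD, hlD, hqD, hmD, -⟩ := sub_props d
  haveI := haD; haveI := hlD; haveI := hqD; haveI := hmD
  haveI : IsReduced D.left := isReduced_of_smooth_field D.hom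
  haveI : IrreducibleSpace D.left := Groth.Agent.S0348.result k D
  have hDB : rangePts d ≤ rangePts iB := hD ▸ sup_le hTB (normal_le_borel u hu hnorm iB hB)
  obtain ⟨τ, hτm, hτ⟩ := exists_fac_sub d iT (hD ▸ le_sup_left)
  obtain ⟨β, hβm, hβ⟩ := exists_fac_sub iB d hDB
  haveI := hτm; haveI := hβm
  haveI : IsClosedImmersion τ.left := by
    haveI : IsClosedImmersion (τ.left ≫ d.left) := by rw [← Over.comp_left, hτ]; infer_instance
    exact IsClosedImmersion.of_comp τ.left d.left
  haveI : IsClosedImmersion β.left := by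
    haveI : IsClosedImmersion (β.left ≫ iB.left) := by rw [← Over.comp_left, hβ]; infer_instance
    exact IsClosedImmersion.of_comp β.left iB.left
  -- the torus is strictly smaller than the join
  have h1 : topologicalKrullDim ↥T.left < topologicalKrullDim ↥D.left := dim_lt τ fun h => hx (by
    rw [← cancel_mono u, MonObj.one_comp]
    obtain ⟨y, hy⟩ : x ≫ u ∈ rangePts d := hD ▸ Subgroup.mem_sup_right ⟨x, rfl⟩
    obtain ⟨z, hz⟩ := exists_of_mem_range τ y (by rw [h]; trivial)
    have e : z ≫ iT = x ≫ u := by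
      change y ≫ d = x ≫ u at hy
      rw [← hτ, ← Category.assoc, hz, hy]
    exact eq_one_of_isSsPt_isUnipPt (e ▸ isSsPt_of_torus hT.2.2.1 iT z) ((map_isSsPt_isUnipPt u x).2 (hu x)))
  have h3 : topologicalKrullDim ↥B.left < topologicalKrullDim ↥G.left := dim_lt iB fun h => hnB (by
    obtain ⟨b, hb⟩ := exists_of_mem_range iB n (by rw [h]; trivial)
    exact ⟨b, hb⟩)
  have hBD : rangePts iB ≤ rangePts d := by
    rintro _ ⟨b, rfl⟩
    by_cases hr : Set.range β.left = Set.univ
    · obtain ⟨y, rfl⟩ := exists_of_mem_range β b (by rw [hr]; trivial)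
      exact ⟨y, by show y ≫ d = (y ≫ β) ≫ iB; rw [Category.assoc, hβ]⟩
    exfalso
    have h2 := dim_lt β hr
    obtain ⟨rT, -, hrT⟩ := RedRank.exists_dim hT.2.2.1
    obtain ⟨rG, hrG⟩ := exists_dim G
    obtain ⟨rB, hrB⟩ := exists_dim B
    obtain ⟨rD, hrD⟩ := exists_dim D
    rw [hrT, hrD] at h1
    rw [hrD, hrB] at h2
    rw [hrB, hrG] at h3
    rw [hrT, hrG] at hdim
    norm_cast at h1 h2 h3 hdim
    omega
  refine hnB (normalizer_borel iB hB n fun y hy => ?_)
  have hconj : ∀ m : PT ⟶ G, (∀ s ∈ rangePts iT, m * s * m⁻¹ ∈ rangePts iT) →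
      ∀ z ∈ rangePts d, m * z * m⁻¹ ∈ rangePts d := by
    intro m hm z hz
    have hle : rangePts iT ⊔ rangePts u ≤ (rangePts d).comap (MulAut.conj m).toMonoidHom := sup_le
      (fun s hs => by
        show m * s * m⁻¹ ∈ rangePts d
        rw [hD]; exact Subgroup.mem_sup_left (hm s hs))
      (by
        rintro _ ⟨w, rfl⟩
        show m * (w ≫ u) * m⁻¹ ∈ rangePts d
        rw [hD]
        obtain ⟨w', hw'⟩ := hnorm _ m w
        exact Subgroup.mem_sup_right ⟨w', hw'.symm⟩)
    exact hle (hD ▸ hz)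
  refine ⟨hDB (hconj n hn' y (hBD hy)), hDB ?_⟩
  have := hconj n⁻¹ (fun s hs => by rw [_root_.inv_inv]; exact hn s hs) y (hBD hy)
  rwa [_root_.inv_inv] at this

end Groth.Agent.RedOpen
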