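import Groth.Agent.RedOpen.Fixed
import Groth.Agent.RedOpen.Krull
import Groth.Agent.SolvGrp.Reductive
import Groth.Agent.SolvGrp.Radical
import Groth.Agent.SolvGrp.Cartan
import Groth.Agent.GrpSchLib.HomFinite
import Groth.Agent.RedRank.TorusDim

/-!
# Reductive groups of semisimple rank at most one
-/

set_option backward.isDefEq.respectTransparency false
set_option backward.isDefEq.respectTransparency.types false
set_option linter.style.haveILetI false
set_option autoImplicit false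

universe u

open CategoryTheory MonoidalCategory CartesianMonoidalCategory MonObj AlgebraicGeometry

namespace Groth.Agent.RedOpen

open GrpSchLib GrpSchLib.Kunneth GrpSchLib.LineGroups WeilCmp.Unip AGFLib AGFLib.Gen AGFLib.BorelFixed SolvGrp
open AGFLib.BorelExist

variable {k : Type u} [Field k] [IsAlgClosed k]

local notation "PT" => 𝟙_ (Over (Spec (CommRingCat.of k)))

variable {G T B : Over (Spec (CommRingCat.of k))} [GrpObj G] [GrpObj T] [GrpObj B] [IsAffine G.left] [Smooth G.hom]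
  [ConnectedSpace G.left]

/-- A connected subgroup of every Borel subgroup through a maximal torus, containing the torus, is the torus. -/
theorem eq_torus_of_le_borels (hG : Red.IsReductiveOver k G) (iB : B ⟶ G) [IsMonHom iB] (hB : Red.IsBorelOver k iB)
    (iT : T ⟶ G) [IsMonHom iT] (hT : AGF.IsMaxTorus iT) {D : Over (Spec (CommRingCat.of k))} [GrpObj D] (iD : D ⟶ G)
    [IsMonHom iD] [IsClosedImmersion iD.left] [Smooth D.hom] [ConnectedSpace D.left] (hs : Red.IsSolvableGrp D)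
    (hTD : rangePts iT ≤ rangePts iD)
    (hH : ∀ g : PT ⟶ G, (∀ t, g⁻¹ * (t ≫ iT) * g ∈ rangePts iB) → ∀ x ∈ rangePts iD, g⁻¹ * x * g ∈ rangePts iB) :
    ∃ φ : T ≅ D, φ.hom ≫ iD = iT := by
  haveI := hT.2.1
  obtain ⟨haT, hsT, hcT, -⟩ := torus_props hT.2.2.1
  haveI := haT; haveI := hsT
  obtain ⟨haD, hlD, -, hmD, hevD⟩ := sub_props iD
  haveI := haD; haveI := hlD; haveI := hmD
  haveI : IsReduced D.left := isReduced_of_smooth_field D.hom
  obtain ⟨V, _, v, hv, hcv, hsV, hcV, haV, -, hV⟩ := exists_unipRad hs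
  haveI := hv; haveI := hcv; haveI := hsV; haveI := hcV; haveI := haV
  obtain ⟨-, hlV, -, hmV, hevV⟩ := sub_props v
  haveI := hlV; haveI := hmV
  haveI : IsReduced V.left := isReduced_of_smooth_field V.hom
  have hV1 : ∀ x : PT ⟶ V, x ≫ v ≫ iD = 1 := eq_one_of_unip hG iB hB iT hT (v ≫ iD)
    (fun x => IsUnipPt.map v hevV ((hV _).mp ⟨x, rfl⟩))
    (fun g hg x => hH g hg _ ⟨x ≫ v, Category.assoc _ _ _⟩)
  have hDt : Red.IsTorus D := isTorus_of_unip_trivial fun U _ i _ hci hsU hcU hU => by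
    haveI := hci; haveI := hsU; haveI := hcU
    obtain ⟨haU, hlU, -, hmU, -⟩ := sub_props i
    haveI := haU; haveI := hlU; haveI := hmU
    haveI : IsReduced U.left := isReduced_of_smooth_field U.hom
    refine isTrivialGrp_of_pts fun x => (cancel_mono (i ≫ iD)).mp ?_
    obtain ⟨y, hy⟩ : x ≫ i ∈ rangePts v := (hV _).mpr ((map_isSsPt_isUnipPt i x).2 (isUnipPt_of_hasNoSubtorus hU x))
    change y ≫ v = x ≫ i at hy
    rw [MonObj.one_comp, ← Category.assoc, ← hy, Category.assoc, hV1]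
  obtain ⟨φ, hφ, hφD⟩ := exists_fac_sub iD iT hTD
  haveI := hφ
  haveI := hT.2.2.2 D iD φ hDt hφD
  exact ⟨asIso φ, hφD⟩

set_option maxHeartbeats 1000000 in
/-- A reductive group in which the kernel of a character of a maximal torus is central has dimension at most that
of the torus plus two; it is the torus when the torus has no non-trivial Weyl element. -/
theorem rankOne (hG : Red.IsReductiveOver k G) (iT : T ⟶ G) [IsMonHom iT] (hT : AGF.IsMaxTorus iT) (f : Fn T)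
    (hmul : ∀ x y, vl (x * y) f = vl x f * vl y f) (hone : vl (1 : PT ⟶ T) f = 1)
    (hcen : ∀ t, vl t f = 1 → ∀ g : PT ⟶ G, Commute g (t ≫ iT)) :
    topologicalKrullDim ↥G.left ≤ topologicalKrullDim ↥T.left + 2 ∧
      ((∀ n : PT ⟶ G, (∀ s ∈ rangePts iT, n⁻¹ * s * n ∈ rangePts iT) → ∀ s ∈ rangePts iT, Commute n s) →
        rangePts iT = ⊤) := by
  classical
  haveI := hT.2.1
  haveI : IsReduced G.left := isReduced_of_smooth_field G.hom
  obtain ⟨haT, hsT, hcT, -⟩ := torus_props hT.2.2.1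
  haveI := haT; haveI := hsT
  haveI : IsReduced T.left := isReduced_of_smooth_field T.hom
  obtain ⟨B, _, iB, t, hB, ht⟩ := exists_borel_maxTorus iT hT
  haveI := hB.1; haveI := hB.2.1; haveI := hB.2.2.1; haveI := hB.2.2.2.1
  obtain ⟨haB, hlB, hqB, hmB, -⟩ := sub_props iB
  haveI := haB; haveI := hlB; haveI := hqB; haveI := hmB
  haveI : IsReduced B.left := isReduced_of_smooth_field B.hom
  have hTB : rangePts iT ≤ rangePts iB := by
    rintro _ ⟨x, rfl⟩
    exact ⟨x ≫ t, by show (x ≫ t) ≫ iB = x ≫ iT; rw [Category.assoc, ht]⟩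
  obtain ⟨n₀, hn₀, hrep⟩ := exists_weyl_rep iT hT.2.2.1 f hmul hone hcen
  have hn₀B : ∀ s ∈ rangePts iT, n₀⁻¹ * s * n₀ ∈ rangePts iB := fun s hs => hTB (hn₀ s hs)
  have htwo : ∀ g : PT ⟶ G, (∀ s ∈ rangePts iT, g⁻¹ * s * g ∈ rangePts iB) →
      g ∈ rangePts iB ∨ n₀⁻¹ * g ∈ rangePts iB := by
    intro g hg
    haveI : IsMonHom (AGF.conjBy g iB) := by rw [AGFLib.Borel.conjBy_eq]; infer_instance
    have hBg := AGFLib.Borel.isBorel_conj iB hB g
    haveI := hBg.2.1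
    haveI := hBg.2.2.1
    obtain ⟨-, hlg, -, -, -⟩ := sub_props (AGF.conjBy g iB)
    haveI := hlg
    obtain ⟨tg, -, htg⟩ := exists_fac_sub (AGF.conjBy g iB) iT fun x hx => (rangePts_conjBy g iB x).mpr (hg x hx)
    obtain ⟨ν, φ, ψ, hφ, hψ⟩ := borelPair_conj iB (AGF.conjBy g iB) hB hBg iT iT hT hT t ht tg htg
    have hν : ∀ s ∈ rangePts iT, ν⁻¹ * s * ν ∈ rangePts iT := by
      rintro _ ⟨x, rfl⟩
      refine ⟨x ≫ ψ.inv, ?_⟩
      show (x ≫ ψ.inv) ≫ iT = ν⁻¹ * (x ≫ iT) * ν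
      have h1 : ((x ≫ ψ.inv) ≫ ψ.hom) ≫ iT = ν * ((x ≫ ψ.inv) ≫ iT) * ν⁻¹ := by
        rw [Category.assoc _ ψ.hom, hψ, AGFLib.Borel.conjBy_eq, ← Category.assoc, comp_conjM_pt]
      rw [Category.assoc x ψ.inv ψ.hom, ψ.inv_hom_id, Category.comp_id] at h1
      rw [h1]
      group
    have hconj : ∀ y, g⁻¹ * y * g ∈ rangePts iB ↔ ν⁻¹ * y * ν ∈ rangePts iB := fun y => by
      rw [← rangePts_conjBy g iB]
      constructor
      · rintro ⟨z, hz⟩
        refine ⟨z ≫ φ.inv, ?_⟩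
        change z ≫ AGF.conjBy g iB = y at hz
        show (z ≫ φ.inv) ≫ iB = _
        have h1 : ((z ≫ φ.inv) ≫ φ.hom) ≫ AGF.conjBy g iB = ν * ((z ≫ φ.inv) ≫ iB) * ν⁻¹ := by
          rw [Category.assoc _ φ.hom, hφ, AGFLib.Borel.conjBy_eq, ← Category.assoc, comp_conjM_pt]
        rw [Category.assoc z φ.inv φ.hom, φ.inv_hom_id, Category.comp_id, hz] at h1
        rw [h1]
        group
      · rintro ⟨z, hz⟩
        refine ⟨z ≫ φ.hom, ?_⟩
        change z ≫ iB = _ at hz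
        show (z ≫ φ.hom) ≫ AGF.conjBy g iB = y
        rw [Category.assoc, hφ, AGFLib.Borel.conjBy_eq, ← Category.assoc, comp_conjM_pt, hz]
        group
    have hb : ν⁻¹ * g ∈ rangePts iB := normalizer_borel iB hB _ fun y hy => by
      constructor
      · have h1 := (hconj (g * y * g⁻¹)).mp (by rwa [show g⁻¹ * (g * y * g⁻¹) * g = y by group])
        rwa [show ν⁻¹ * (g * y * g⁻¹) * ν = ν⁻¹ * g * y * (ν⁻¹ * g)⁻¹ by group] at h1
      · have h1 := (hconj (ν * y * ν⁻¹)).mpr (by rwa [show ν⁻¹ * (ν * y * ν⁻¹) * ν = y by group])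
        rwa [show g⁻¹ * (ν * y * ν⁻¹) * g = (ν⁻¹ * g)⁻¹ * y * (ν⁻¹ * g) by group] at h1
    rcases hrep ν hν with h | h
    · refine Or.inl ?_
      have := mul_mem (hTB (mem_torus_of_commute hG iT hT ν h)) hb
      rwa [mul_inv_cancel_left] at this
    · refine Or.inr ?_
      have := mul_mem (hTB (mem_torus_of_commute hG iT hT _ h)) hb
      rwa [show n₀⁻¹ * ν * (ν⁻¹ * g) = n₀⁻¹ * g by group] at this
  have hH : ∀ {D : Over (Spec (CommRingCat.of k))} [GrpObj D] (iD : D ⟶ G) [IsMonHom iD],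
      rangePts iD ≤ rangePts iB → (∀ x ∈ rangePts iD, n₀⁻¹ * x * n₀ ∈ rangePts iB) →
      ∀ g : PT ⟶ G, (∀ t, g⁻¹ * (t ≫ iT) * g ∈ rangePts iB) → ∀ x ∈ rangePts iD, g⁻¹ * x * g ∈ rangePts iB := by
    intro D _ iD _ h1 h2 g hg x hx
    rcases htwo g (by rintro _ ⟨s, rfl⟩; exact hg s) with h | h
    · exact mul_mem (mul_mem (inv_mem h) (h1 hx)) h
    · have := mul_mem (mul_mem (inv_mem h) (h2 x hx)) h
      rwa [show (n₀⁻¹ * g)⁻¹ * (n₀⁻¹ * x * n₀) * (n₀⁻¹ * g) = g⁻¹ * x * g by group] at this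
  rcases exists_cutting_function iB hB iT hT.2.2.1 n₀ hTB hn₀B htwo with htop | ⟨hn₀not, f₀, hf₀⟩
  · -- solvable: the group is the torus
    obtain ⟨φ, hφ⟩ := eq_torus_of_le_borels hG iB hB iT hT iB hB.2.2.2.2.1 hTB
      (hH iB le_rfl fun x _ => htop ▸ Subgroup.mem_top _)
    have hT' : rangePts iT = ⊤ := eq_top_iff.mpr fun g hg => by
      obtain ⟨b, rfl⟩ := (htop ▸ hg : g ∈ rangePts iB)
      exact ⟨b ≫ φ.inv, by show (b ≫ φ.inv) ≫ iT = b ≫ iB; rw [← hφ, Category.assoc, Iso.inv_hom_id_assoc]⟩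
    refine ⟨?_, fun _ => hT'⟩
    haveI : IsClosedImmersion iT.left := DomHom.isClosedImmersion_of_mono iT
    have hu : Set.range iT.left = Set.univ := eq_univ_of_forall_cp iT.left.isClosedEmbedding.isClosed_range fun g => by
      obtain ⟨x, rfl⟩ : g ∈ rangePts iT := hT' ▸ Subgroup.mem_top g
      exact ⟨cp x, rfl⟩
    rw [← IsHomeomorph.topologicalKrullDim_eq _ (iT.left.isClosedEmbedding.isEmbedding.toHomeomorph.trans
      ((Homeomorph.setCongr hu).trans (Homeomorph.Set.univ _))).isHomeomorph]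
    exact le_add_of_nonneg_right (by norm_num)
  refine ⟨?_, fun h => (hn₀not (hTB (mem_torus_of_commute hG iT hT n₀ (h n₀ hn₀)))).elim⟩
  haveI : IrreducibleSpace G.left := Groth.Agent.S0348.result k G
  haveI : IrreducibleSpace B.left := Groth.Agent.S0348.result k B
  -- the Borel subgroup has codimension one
  have hZ : ((G.left.basicOpen f₀ : Set G.left)ᶜ) = Set.range iB.left := by
    refine subset_antisymm (subset_of_cp (G.left.basicOpen f₀).isOpen.isClosed_compl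
      iB.left.isClosedEmbedding.isClosed_range fun g hg => ?_) (subset_of_cp iB.left.isClosedEmbedding.isClosed_range
      (G.left.basicOpen f₀).isOpen.isClosed_compl fun g hg => ?_)
    · obtain ⟨b, rfl⟩ := (hf₀ g).mp (by
        by_contra hne; exact hg ((mem_basicOpen_iff_vl g f₀).mpr hne))
      exact ⟨cp b, rfl⟩
    · obtain ⟨b, rfl⟩ := exists_of_mem_range iB g hg
      exact fun hb => (mem_basicOpen_iff_vl _ f₀).mp hb ((hf₀ _).mpr ⟨b, rfl⟩)
  have hf₀ne : f₀ ≠ 0 := fun h => hn₀not ((hf₀ n₀).mp (by rw [h, map_zero]))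
  obtain ⟨n, hGdim, hBdim, -⟩ := dim_zeroSet f₀ hf₀ne hZ.symm ⟨_, ⟨cp (1 : PT ⟶ B), rfl⟩⟩
  rw [← IsHomeomorph.topologicalKrullDim_eq _ iB.left.isClosedEmbedding.isEmbedding.toHomeomorph.isHomeomorph] at hBdim
  -- the intersection with the opposite Borel subgroup
  let ψ : B ⟶ G := iB ≫ AGFLib.Borel.conjM n₀⁻¹
  have hψ : ∀ x : PT ⟶ B, x ≫ ψ = n₀⁻¹ * (x ≫ iB) * n₀ := fun x => by
    rw [← Category.assoc, comp_conjM_pt, _root_.inv_inv]
  haveI : IsMonHom ψ := inferInstance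
  let Γ : Subgroup (PT ⟶ B) := (rangePts iB).comap (ptsHom ψ)
  obtain ⟨D, _, i, hi, hci, hsD, hcD, haD, hiΓ, S, hS, hSΓ, hcov⟩ := exists_connSub Γ ((ptsClosed_range iB).preimage ψ)
  haveI := hi; haveI := hci; haveI := hsD; haveI := hcD
  haveI : IsClosedImmersion (i ≫ iB).left := inferInstanceAs (IsClosedImmersion (i.left ≫ iB.left))
  have hTD : rangePts iT ≤ rangePts (i ≫ iB) := by
    obtain ⟨-, hlD, hqD, -, -⟩ := sub_props i
    haveI := hlD; haveI := hqD
    refine rangePts_le_of_finite iT (rangePts (i ≫ iB)) (ptsClosed_range (i ≫ iB)) ((· ≫ iB) '' S) (hS.image _) ?_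
    rintro _ ⟨x, rfl⟩
    have hx : x ≫ t ∈ Γ := by
      show (x ≫ t) ≫ ψ ∈ rangePts iB
      rw [hψ, Category.assoc, ht]
      exact hn₀B _ ⟨x, rfl⟩
    obtain ⟨s, hs, y, hy⟩ := hcov _ hx
    refine ⟨s ≫ iB, ⟨s, hs, rfl⟩, y, ?_⟩
    change y ≫ i = _ at hy
    show y ≫ i ≫ iB = (s ≫ iB)⁻¹ * (x ≫ iT)
    rw [← Category.assoc, hy, MonObj.mul_comp, GrpObj.inv_comp, Category.assoc, ht]
  haveI : Mono i := mono_of_closedImmersion i
  obtain ⟨φ, -⟩ := eq_torus_of_le_borels hG iB hB iT hT (i ≫ iB)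
    (isSolvableGrp_of_mono i hB.2.2.2.2.1) hTD (hH (i ≫ iB) (fun x hx => rangePts_comp iB i hx) (by
      rintro _ ⟨y, rfl⟩
      have h1 : (y ≫ i) ≫ ψ ∈ rangePts iB := hiΓ ⟨y, rfl⟩
      rw [hψ] at h1
      show n₀⁻¹ * (y ≫ i ≫ iB) * n₀ ∈ _
      rwa [← Category.assoc]))
  -- dimensions
  let h₀ : Fn B := ev ψ f₀
  have hh₀ : ∀ g : PT ⟶ B, vl g h₀ = 0 ↔ g ∈ Γ := fun g => by rw [vl_ev]; exact hf₀ _
  obtain ⟨W, hWc, hWi, hWZ, hWd⟩ : ∃ W : Set B.left, IsClosed W ∧ IsIrreducible W ∧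
      W ⊆ (B.left.basicOpen h₀ : Set B.left)ᶜ ∧ topologicalKrullDim ↥B.left ≤ topologicalKrullDim ↥W + 1 := by
    by_cases h0 : h₀ = 0
    · refine ⟨Set.univ, isClosed_univ, IrreducibleSpace.isIrreducible_univ _, fun x _ hx => ?_, ?_⟩
      · rw [h0, Scheme.basicOpen_zero] at hx
        exact hx.elim
      · rw [IsHomeomorph.topologicalKrullDim_eq _ (Homeomorph.Set.univ ↥B.left).isHomeomorph]
        exact le_add_of_nonneg_right (by norm_num)
    · obtain ⟨m, hm, -, W, h1, h2, h3, h4⟩ := dim_zeroSet h₀ h0 rfl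
        ⟨cp (1 : PT ⟶ B), fun hb => (mem_basicOpen_iff_vl _ h₀).mp hb ((hh₀ _).mpr (one_mem _))⟩
      exact ⟨W, h1, h2, h3, by rw [hm, h4]; norm_cast⟩
  haveI := hS.to_subtype
  let F : S → Set B.left := fun s => Set.range (i ≫ (HomFinite.trans (s : PT ⟶ B)).hom).left
  haveI : ∀ s : S, IsClosedImmersion (i ≫ (HomFinite.trans (s : PT ⟶ B)).hom).left := fun s => by
    haveI : IsIso (HomFinite.trans (s : PT ⟶ B)).hom.left :=
      ((Over.forget _).mapIso (HomFinite.trans (s : PT ⟶ B))).isIso_hom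
    exact inferInstanceAs (IsClosedImmersion (i.left ≫ _))
  have hFc : ∀ s, IsClosed (F s) := fun s => (Scheme.Hom.isClosedEmbedding _).isClosed_range
  have hsub : W ⊆ ⋃ s, F s := subset_of_cp hWc (isClosed_iUnion_of_finite hFc) fun g hg => by
    obtain ⟨s, hs, y, hy⟩ := hcov g ((hh₀ g).mp (by
      by_contra hne; exact hWZ hg ((mem_basicOpen_iff_vl g h₀).mpr hne)))
    change y ≫ i = s⁻¹ * g at hy
    refine Set.mem_iUnion.mpr ⟨⟨s, hs⟩, cp y, ?_⟩
    rw [← cp_comp]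
    congr 1
    rw [← Category.assoc, show (y ≫ i) ≫ (HomFinite.trans s).hom = s * (y ≫ i) by
      show (y ≫ i) ≫ ((toUnit B ≫ s) * 𝟙 B) = _
      rw [MonObj.comp_mul, Category.comp_id, ← Category.assoc, toUnit_unique ((y ≫ i) ≫ toUnit B) (𝟙 _),
        Category.id_comp], hy, mul_inv_cancel_left]
  obtain ⟨s, hsW⟩ := H23.TopDim.exists_subset_of_locallyFinite hFc (locallyFinite_of_finite F) hWi hsub
  have hW : topologicalKrullDim ↥W ≤ topologicalKrullDim ↥T.left := by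
    refine (H23.TopDim.dim_le_dim_of_subset hsW).trans (le_of_eq ?_)
    rw [← IsHomeomorph.topologicalKrullDim_eq _
      (Scheme.Hom.isClosedEmbedding (i ≫ (HomFinite.trans (s : PT ⟶ B)).hom).left).isEmbedding.toHomeomorph.isHomeomorph]
    exact (IsHomeomorph.topologicalKrullDim_eq _
      ((Over.forget _).mapIso φ).hom.homeomorph.isHomeomorph).symm
  obtain ⟨r, -, hr⟩ := RedRank.exists_dim hT.2.2.1
  rw [hr] at hW ⊢
  rw [hGdim]
  rw [hBdim] at hWd
  generalize topologicalKrullDim ↥W = z at hW hWd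
  cases z with
  | bot => simp at hWd
  | coe z =>
    have h1 : z ≤ (r : ℕ∞) := WithBot.coe_le_coe.mp hW
    have h2 : ((n : ℕ∞) : WithBot ℕ∞) ≤ ((z + 1 : ℕ∞) : WithBot ℕ∞) := by exact_mod_cast hWd
    have h3 : (n : ℕ∞) ≤ (r : ℕ∞) + 1 := (WithBot.coe_le_coe.mp h2).trans (add_le_add_left h1 1)
    have h4 : n ≤ r + 1 := by exact_mod_cast h3
    norm_cast
    omega

end Groth.Agent.RedOpen
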