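import Groth.Agent.SolvGrp.Limit
import Groth.Agent.SolvGrp.Weights
import Groth.Agent.DomHom.MonoAffine

/-!
# A torus with a central corank one kernel has at most one non-trivial Weyl element
-/

set_option backward.isDefEq.respectTransparency false
set_option backward.isDefEq.respectTransparency.types false
set_option linter.style.haveILetI false
set_option autoImplicit false

universe u

open CategoryTheory MonoidalCategory CartesianMonoidalCategory MonObj AlgebraicGeometry

namespace Groth.Agent.RedOpen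

open GrpSchLib GrpSchLib.Kunneth GrpSchLib.LineGroups WeilCmp.Unip AGFLib AGFLib.Gen AGFLib.BorelFixed SolvGrp

section Lattice

variable {r : ℕ} (A : (Fin r → ℤ) →+ (Fin r → ℤ)) (m : Fin r → ℤ)

/-- An endomorphism of finite order of a lattice which moves every vector along a line preserves or reverses the line. -/
theorem map_line (hm : m ≠ 0) (hA : ∀ x i j, (A x - x) i * m j = (A x - x) j * m i) {N : ℕ} (hN : 0 < N)
    (hAN : A^[N] m = m) : A m = m ∨ A m = -m := by
  obtain ⟨i, hi⟩ := Function.ne_iff.mp hm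
  change m i ≠ 0 at hi
  have hline : m i • A m = A m i • m := funext fun j => by
    have h := hA m j i
    simp only [Pi.sub_apply, Pi.smul_apply, smul_eq_mul] at h ⊢
    linear_combination h
  have hpow : ∀ n : ℕ, m i ^ n • A^[n] m = A m i ^ n • m := by
    intro n
    induction n with
    | zero => simp
    | succ n ih =>
      rw [Function.iterate_succ_apply', pow_succ, mul_comm, ← smul_smul, ← map_zsmul A (m i ^ n), ih, map_zsmul,
        smul_comm, hline, smul_smul, ← pow_succ]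
  have h1 := congrFun (hpow N) i
  rw [hAN] at h1
  simp only [Pi.smul_apply, smul_eq_mul] at h1
  have h2 : (m i).natAbs = (A m i).natAbs := Nat.pow_left_injective hN.ne' (by
    simpa only [Int.natAbs_pow] using congrArg Int.natAbs (mul_right_cancel₀ hi h1))
  rcases Int.natAbs_eq_natAbs_iff.mp h2 with h | h
  · refine Or.inl (smul_right_injective (Fin r → ℤ) hi ?_)
    show m i • A m = m i • m
    rw [hline, h]
  · refine Or.inr (smul_right_injective (Fin r → ℤ) hi ?_)
    show m i • A m = m i • -m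
    rw [hline, smul_neg, ← neg_smul, h, neg_neg]

/-- An endomorphism of finite order fixing a line and moving every vector along it is the identity. -/
theorem eq_id_of_fixed (hm : m ≠ 0) (hA : ∀ x i j, (A x - x) i * m j = (A x - x) j * m i) (hfix : A m = m) {N : ℕ}
    (hN : 0 < N) (hAN : ∀ x, A^[N] x = x) (x : Fin r → ℤ) : A x = x := by
  obtain ⟨i, hi⟩ := Function.ne_iff.mp hm
  change m i ≠ 0 at hi
  have hline : m i • (A x - x) = (A x - x) i • m := funext fun j => by
    simp only [Pi.smul_apply, smul_eq_mul]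
    linear_combination (hA x j i)
  have hD : A (A x - x) = A x - x := by
    refine smul_right_injective (Fin r → ℤ) hi ?_
    show m i • A (A x - x) = m i • (A x - x)
    rw [← map_zsmul, hline, map_zsmul, hfix]
  have hit : ∀ n : ℕ, A^[n] x = x + (n : ℤ) • (A x - x) := by
    intro n
    induction n with
    | zero => simp
    | succ n ih =>
      rw [Function.iterate_succ_apply', ih, map_add, map_zsmul, hD, Nat.cast_succ, add_smul, one_smul]
      abel
  have h := hit N
  rw [hAN, left_eq_add, smul_eq_zero] at h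
  exact sub_eq_zero.mp (h.resolve_left (by exact_mod_cast hN.ne'))

end Lattice

variable {k : Type u} [Field k] [IsAlgClosed k]

local notation "PT" => 𝟙_ (Over (Spec (CommRingCat.of k)))

/-- In an algebraically closed field some unit is no root of unity of a given order. -/
theorem exists_zpow_ne_one {z : ℤ} (hz : z ≠ 0) : ∃ c : k, c ≠ 0 ∧ c ^ z ≠ 1 := by
  classical
  obtain ⟨c, hc⟩ := Infinite.exists_notMem_finset ((Polynomial.nthRoots z.natAbs (1 : k)).toFinset ∪ {0})
  simp only [Finset.mem_union, Multiset.mem_toFinset, Finset.mem_singleton, not_or] at hc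
  refine ⟨c, hc.2, fun h => hc.1 ((Polynomial.mem_nthRoots (Int.natAbs_pos.mpr hz)).mpr ?_)⟩
  rcases Int.natAbs_eq z with e | e
  · rw [e, zpow_natCast] at h; exact h
  · rw [e, zpow_neg, inv_eq_one, zpow_natCast] at h; exact h

/-- The characters of a torus form a lattice: multiplicative functions are monomials. -/
theorem exists_lattice {T : Over (Spec (CommRingCat.of k))} [GrpObj T] (hT : Red.IsTorus T) :
    ∃ (r : ℕ) (χ : (Fin r → ℤ) → (PT ⟶ T) → k), Function.Injective χ ∧
      (∀ a x y, χ a (x * y) = χ a x * χ a y) ∧ (∀ a t, χ a t ≠ 0) ∧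
      (∀ a b t, χ (a + b) t = χ a t * χ b t) ∧ (∀ x y, (∀ a, χ a x = χ a y) → x = y) ∧
      (∀ ℓ : (Fin r → ℤ) →+ ℤ, ∀ c : k, c ≠ 0 → ∃ t, ∀ a, χ a t = c ^ ℓ a) ∧
      (∀ a, ∃ f : Fn T, ∀ t, vl t f = χ a t) ∧
      ∀ f : Fn T, (∀ x y, vl (x * y) f = vl x f * vl y f) → vl 1 f = 1 → ∃ a, ∀ t, vl t f = χ a t := by
  classical
  obtain ⟨haff, hsm, -, -⟩ := torus_props hT
  haveI := haff
  haveI := hsm
  haveI : IsReduced T.left := isReduced_of_smooth_field T.hom
  obtain ⟨r, φ, hφ⟩ := exists_torus_chars hT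
  let χ : (Fin r → ℤ) → (PT ⟶ T) → k := fun m t => vl t (φ (MonoidAlgebra.single (Multiplicative.ofAdd m) 1))
  have hsingle : ∀ (a b : Fin r → ℤ) (t : PT ⟶ T), χ (a + b) t = χ a t * χ b t := fun a b t => by
    simp only [χ]
    rw [ofAdd_add, show MonoidAlgebra.single (Multiplicative.ofAdd a * Multiplicative.ofAdd b) (1 : k) =
      MonoidAlgebra.single (Multiplicative.ofAdd a) 1 * MonoidAlgebra.single (Multiplicative.ofAdd b) 1 by
        rw [MonoidAlgebra.single_mul_single, _root_.mul_one], map_mul, map_mul]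
  refine ⟨r, χ, fun a b h => ?_, fun a x y => hφ x y _, fun a t => ?_, hsingle, fun x y h => ?_, fun ℓ c hc => ?_,
    fun a => ⟨_, fun t => rfl⟩, fun f hf h1 => ?_⟩
  · have h2 : φ (MonoidAlgebra.single (Multiplicative.ofAdd a) 1) = φ (MonoidAlgebra.single (Multiplicative.ofAdd b) 1) :=
      eq_of_vl fun t => congrFun h t
    have h3 := congrArg (fun p : MonoidAlgebra k (Multiplicative (Fin r → ℤ)) => p.coeff (Multiplicative.ofAdd a))
      (φ.injective h2)
    by_contra hne
    simp [Finsupp.single_apply, Ne.symm hne] at h3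
  · exact (((((MonoidAlgebra.of k (Multiplicative (Fin r → ℤ))).toHomUnits
      (Multiplicative.ofAdd a)).isUnit).map φ).map (vl t)).ne_zero
  · have e : (vl x).comp φ.toAlgHom = (vl y).comp φ.toAlgHom :=
      MonoidAlgebra.algHom_ext (fun a => h (Multiplicative.toAdd a)) (Subsingleton.elim _ _)
    refine GrpSchLib.LineGroups.ext_ev (AlgHom.ext fun p => (ProjAct.toK (k := k)).injective ?_)
    have e' := DFunLike.congr_fun e (φ.symm p)
    show vl x p = vl y p
    simpa using e'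
  · let f : Multiplicative (Fin r → ℤ) →* k :=
      { toFun := fun m => c ^ ℓ (Multiplicative.toAdd m)
        map_one' := by simp
        map_mul' := fun a b => by simp [zpow_add₀ hc] }
    obtain ⟨t, ht⟩ := exists_pt ((MonoidAlgebra.lift k k _ f).comp (φ.symm : Fn T →ₐ[k] _))
    refine ⟨t, fun a => ?_⟩
    show vl t _ = _
    rw [ht]
    simp [f]
  · let p := φ.symm f
    have hp : f = φ p := (φ.apply_symm_apply f).symm
    have hne : p ≠ 0 := fun h0 => by
      rw [hp, h0, map_zero, map_zero] at h1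
      exact zero_ne_one h1
    obtain ⟨a, ha⟩ : ∃ a, p.coeff a ≠ 0 := by
      by_contra hcon
      push Not at hcon
      exact hne (MonoidAlgebra.ext (Finsupp.ext hcon))
    refine ⟨Multiplicative.toAdd a, fun y => ?_⟩
    have hsum : p = ∑ m ∈ p.coeff.support, p.coeff m • MonoidAlgebra.single m (1 : k) := by
      refine MonoidAlgebra.ext (Finsupp.ext fun z => ?_)
      simp [MonoidAlgebra.coeff_sum, Finsupp.single_apply, eq_comm]
    have hval : ∀ x, vl x f = ∑ m ∈ p.coeff.support, p.coeff m * χ (Multiplicative.toAdd m) x := fun x => by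
      conv_lhs => rw [hp, hsum]
      simp only [map_sum, map_smul, smul_eq_mul, χ, ofAdd_toAdd]
    let q : MonoidAlgebra k (Multiplicative (Fin r → ℤ)) :=
      ∑ m ∈ p.coeff.support, (p.coeff m * (χ (Multiplicative.toAdd m) y - vl y f)) • MonoidAlgebra.single m 1
    have hq : φ q = 0 := eq_of_vl fun x => by
      have h2 := hf x y
      have hexp : vl x (φ q) =
          ∑ m ∈ p.coeff.support, p.coeff m * (χ (Multiplicative.toAdd m) y - vl y f) * χ (Multiplicative.toAdd m) x := by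
        simp only [q, map_sum, map_smul, smul_eq_mul, χ, ofAdd_toAdd]
      rw [map_zero, hexp]
      simp only [mul_sub, sub_mul, Finset.sum_sub_distrib, sub_eq_zero]
      rw [hval, hval x, Finset.sum_mul] at h2
      refine Eq.trans ?_ (h2.trans ?_)
      · refine Finset.sum_congr rfl fun m _ => ?_
        rw [show χ (Multiplicative.toAdd m) (x * y) = χ (Multiplicative.toAdd m) x * χ (Multiplicative.toAdd m) y from
          hφ x y _]
        ring
      · exact Finset.sum_congr rfl fun m _ => by ring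
    have h3 : p.coeff a * (χ (Multiplicative.toAdd a) y - vl y f) = 0 := by
      have h4 := congrArg (fun z : MonoidAlgebra k (Multiplicative (Fin r → ℤ)) => z.coeff a)
        (φ.map_eq_zero_iff.mp hq)
      simpa [q, MonoidAlgebra.coeff_sum, Finsupp.single_apply, ha] using h4
    exact (sub_eq_zero.mp ((mul_eq_zero.mp h3).resolve_left ha)).symm

variable {G T : Over (Spec (CommRingCat.of k))} [GrpObj G] [GrpObj T] [IsAffine G.left] [Smooth G.hom]

/-- A torus whose kernel of a character is central has at most one non-trivial Weyl element. -/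
theorem exists_weyl_rep (iT : T ⟶ G) [IsMonHom iT] [Mono iT] (hT : Red.IsTorus T) (f : Fn T)
    (hmul : ∀ x y, vl (x * y) f = vl x f * vl y f) (hone : vl (1 : PT ⟶ T) f = 1)
    (hcen : ∀ t, vl t f = 1 → ∀ g : PT ⟶ G, Commute g (t ≫ iT)) :
    ∃ n₀ : PT ⟶ G, (∀ s ∈ rangePts iT, n₀⁻¹ * s * n₀ ∈ rangePts iT) ∧
      ∀ n : PT ⟶ G, (∀ s ∈ rangePts iT, n⁻¹ * s * n ∈ rangePts iT) →
        (∀ s ∈ rangePts iT, Commute n s) ∨ ∀ s ∈ rangePts iT, Commute (n₀⁻¹ * n) s := by
  classical
  haveI : IsReduced G.left := isReduced_of_smooth_field G.hom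
  obtain ⟨haff, hsm, -, -⟩ := torus_props hT
  haveI := haff
  haveI := hsm
  haveI : IsReduced T.left := isReduced_of_smooth_field T.hom
  haveI : IsClosedImmersion iT.left := DomHom.isClosedImmersion_of_mono iT
  haveI : LocallyOfFiniteType T.hom := inferInstance
  obtain ⟨r, χ, hinj, hχmul, hχne, hadd, hsep, hpts, hfn, hcls⟩ := exists_lattice hT
  obtain ⟨m, hm⟩ := hcls f hmul hone
  by_cases h0 : ∀ n : PT ⟶ G, (∀ s ∈ rangePts iT, n⁻¹ * s * n ∈ rangePts iT) → ∀ s ∈ rangePts iT, Commute n s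
  · exact ⟨1, fun s hs => by simpa using hs, fun n hn => Or.inl (h0 n hn)⟩
  push Not at h0
  obtain ⟨n₀, hn₀, s₀, hs₀, hns₀⟩ := h0
  refine ⟨n₀, hn₀, fun n hn => ?_⟩
  let Nm : Set (PT ⟶ G) := {g | ∀ s ∈ rangePts iT, g⁻¹ * s * g ∈ rangePts iT}
  have hmulN : ∀ g h, g ∈ Nm → h ∈ Nm → g * h ∈ Nm := fun g h hg hh s hs => by
    rw [show (g * h)⁻¹ * s * (g * h) = h⁻¹ * (g⁻¹ * s * g) * h by group]
    exact hh _ (hg s hs)
  -- finite order
  obtain ⟨R, hR, hRm⟩ := finite_normalizer iT hT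
  have hord : ∀ g ∈ Nm, ∃ N : ℕ, 0 < N ∧ ∀ s ∈ rangePts iT, Commute (g ^ N) s := by
    intro g hg
    have hp : ∀ i : ℕ, g ^ i ∈ Nm := fun i => by
      induction i with
      | zero => exact fun s hs => by simpa using hs
      | succ i ih => rw [pow_succ]; exact hmulN _ _ ih hg
    choose rep hrR hrc using fun i : ℕ => hRm (g ^ i) (hp i)
    haveI := hR.to_subtype
    obtain ⟨i, j, hij, he⟩ := Finite.exists_ne_map_eq_of_infinite fun i : ℕ => (⟨rep i, hrR i⟩ : R)
    have he' : rep i = rep j := congrArg Subtype.val he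
    have key : ∀ i j : ℕ, i < j → rep i = rep j → ∀ s ∈ rangePts iT, Commute (g ^ (j - i)) s := by
      intro i j h e s hs
      have h1 := (hrc j s hs).mul_left (hrc i s hs).inv_left
      rw [e, mul_inv_rev, _root_.inv_inv, _root_.mul_assoc, inv_mul_cancel_left] at h1
      rwa [pow_sub g h.le]
    rcases Nat.lt_or_gt_of_ne hij with h | h
    · exact ⟨j - i, Nat.sub_pos_of_lt h, key i j h he'⟩
    · exact ⟨i - j, Nat.sub_pos_of_lt h, key j i h he'.symm⟩
  -- the action on characters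
  have hA : ∀ g ∈ Nm, ∃ A : (Fin r → ℤ) →+ (Fin r → ℤ), ∀ a t t', t' ≫ iT = g⁻¹ * (t ≫ iT) * g →
      χ (A a) t = χ a t' := by
    intro g hg
    haveI : IsMonHom (iT ≫ AGFLib.Borel.conjM g⁻¹) := inferInstance
    obtain ⟨ψ, hψm, hψ⟩ := exists_fac_sub iT (iT ≫ AGFLib.Borel.conjM g⁻¹) (by
      rintro _ ⟨t, rfl⟩
      show t ≫ iT ≫ AGFLib.Borel.conjM g⁻¹ ∈ rangePts iT
      rw [← Category.assoc, comp_conjM_pt, _root_.inv_inv]
      exact hg _ ⟨t, rfl⟩)
    haveI := hψm
    have hψt : ∀ t t', t' ≫ iT = g⁻¹ * (t ≫ iT) * g → t' = t ≫ ψ := fun t t' h => by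
      rw [← cancel_mono iT, h, Category.assoc, hψ, ← Category.assoc, comp_conjM_pt, _root_.inv_inv]
    have hB : ∀ a, ∃ b, ∀ t, χ b t = χ a (t ≫ ψ) := fun a => by
      obtain ⟨fa, hfa⟩ := hfn a
      obtain ⟨b, hb⟩ := hcls (ev ψ fa) (fun x y => by rw [vl_ev, vl_ev, vl_ev, MonObj.mul_comp, hfa, hfa, hfa, hχmul])
        (by rw [vl_ev, MonObj.one_comp, hfa]
            have h1 := hχmul a 1 1
            rw [_root_.mul_one] at h1
            exact (mul_eq_left₀ (hχne a 1)).mp h1.symm)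
      exact ⟨b, fun t => by rw [← hb, vl_ev, hfa]⟩
    choose B hB using hB
    refine ⟨AddMonoidHom.mk' B fun a b => hinj (funext fun t => ?_), fun a t t' h => ?_⟩
    · rw [hB, hadd, hadd, hB, hB]
    · rw [hψt t t' h]; exact hB a t
  choose! A hA using hA
  have hex : ∀ g ∈ Nm, ∀ t : PT ⟶ T, ∃ t', t' ≫ iT = g⁻¹ * (t ≫ iT) * g := fun g hg t => hg _ ⟨t, rfl⟩
  have hline : ∀ g ∈ Nm, ∀ x i j, (A g x - x) i * m j = (A g x - x) j * m i := by
    intro g hg x i j
    -- kill the kernel of the given character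
    have hker : ∀ t, χ m t = 1 → χ (A g x) t = χ x t := fun t ht => by
      have h1 : g⁻¹ * (t ≫ iT) * g = t ≫ iT := by
        rw [_root_.mul_assoc, ← (hcen t ((hm t).trans ht) g).eq, inv_mul_cancel_left]
      exact hA g hg x t t h1.symm
    by_contra hne
    let ℓ : (Fin r → ℤ) →+ ℤ := AddMonoidHom.mk' (fun y => y i * m j - y j * m i) fun a b => by
      simp only [Pi.add_apply]; ring
    have hl : ℓ (A g x) - ℓ x ≠ 0 := by
      rw [← map_sub]
      exact sub_ne_zero.mpr hne
    obtain ⟨c, hc, hc1⟩ := exists_zpow_ne_one (k := k) hl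
    obtain ⟨t, ht⟩ := hpts ℓ c hc
    have h2 := hker t (by rw [ht, show ℓ m = 0 by simp [ℓ, mul_comm], zpow_zero])
    rw [ht, ht] at h2
    exact hc1 (by rw [zpow_sub₀ hc, h2, div_self (zpow_ne_zero _ hc)])
  have hit : ∀ g ∈ Nm, ∀ (N : ℕ), g ^ N ∈ Nm ∧ ∀ x t t', t' ≫ iT = (g ^ N)⁻¹ * (t ≫ iT) * g ^ N →
      χ ((A g)^[N] x) t = χ x t' := by
    intro g hg N
    induction N with
    | zero =>
      refine ⟨fun s hs => by simpa using hs, fun x t t' h => ?_⟩
      simp only [pow_zero, inv_one, _root_.one_mul, _root_.mul_one] at h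
      rw [(cancel_mono iT).mp h]
      rfl
    | succ N ih =>
      refine ⟨by rw [pow_succ']; exact hmulN _ _ hg ih.1, fun x t t' h => ?_⟩
      obtain ⟨t₁, ht₁⟩ := hex g hg t
      rw [Function.iterate_succ_apply', hA g hg _ t t₁ ht₁]
      refine ih.2 x t₁ t' ?_
      rw [h, ht₁, pow_succ']
      group
  have hfixA : ∀ g ∈ Nm, ∃ N : ℕ, 0 < N ∧ ∀ x, (A g)^[N] x = x := fun g hg => by
    obtain ⟨N, hN, hc⟩ := hord g hg
    refine ⟨N, hN, fun x => hinj (funext fun t => (hit g hg N).2 x t t ?_)⟩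
    rw [_root_.mul_assoc, ← (hc _ ⟨t, rfl⟩).eq, inv_mul_cancel_left]
  have hcomm : ∀ g ∈ Nm, (∀ x, A g x = x) → ∀ s ∈ rangePts iT, Commute g s := by
    rintro g hg h _ ⟨t, rfl⟩
    obtain ⟨t', ht'⟩ := hex g hg t
    have e : t = t' := hsep _ _ fun a => by rw [← hA g hg a t t' ht', h]
    rw [← e] at ht'
    show g * (t ≫ iT) = (t ≫ iT) * g
    conv_lhs => rw [ht']
    group
  have hfixed : ∀ g ∈ Nm, (m = 0 ∨ A g m = m) → ∀ s ∈ rangePts iT, Commute g s := by
    intro g hg h
    by_cases hm0 : m = 0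
    · rintro _ ⟨t, rfl⟩
      refine hcen t ?_ g
      rw [hm, hm0]
      have h1 := hadd 0 0 t
      rw [add_zero] at h1
      exact (mul_eq_left₀ (hχne 0 t)).mp h1.symm
    obtain ⟨N, hN, hAN⟩ := hfixA g hg
    exact hcomm g hg (eq_id_of_fixed _ m hm0 (hline g hg) (h.resolve_left hm0) hN hAN)
  have hsign : ∀ g ∈ Nm, (∀ s ∈ rangePts iT, Commute g s) ∨ (m ≠ 0 ∧ A g m = -m) := by
    intro g hg
    by_cases hm0 : m = 0
    · exact Or.inl (hfixed g hg (Or.inl hm0))
    obtain ⟨N, hN, hAN⟩ := hfixA g hg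
    rcases map_line _ m hm0 (hline g hg) hN (hAN m) with h | h
    · exact Or.inl (hfixed g hg (Or.inr h))
    · exact Or.inr ⟨hm0, h⟩
  rcases hsign n hn with h | ⟨-, h⟩
  · exact Or.inl h
  refine Or.inr ?_
  rcases hsign n₀ hn₀ with h' | ⟨-, h'⟩
  · exact absurd (h' s₀ hs₀) hns₀
  obtain ⟨N, hN, hc⟩ := hord n₀ hn₀
  have hinv : n₀⁻¹ ∈ Nm := by
    intro s hs
    obtain ⟨N, rfl⟩ := Nat.exists_eq_succ_of_ne_zero hN.ne'
    have h2 := (hit n₀ hn₀ N).1 s hs
    convert h2 using 1
    have h3 := (hc s hs).eq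
    rw [pow_succ] at h3
    rw [_root_.inv_inv]
    calc n₀ * s * n₀⁻¹ = (n₀ ^ N)⁻¹ * (n₀ ^ N * n₀ * s) * n₀⁻¹ := by group
      _ = (n₀ ^ N)⁻¹ * (s * (n₀ ^ N * n₀)) * n₀⁻¹ := by rw [h3]
      _ = (n₀ ^ N)⁻¹ * s * n₀ ^ N := by group
  refine hfixed _ (hmulN _ _ hinv hn) (Or.inr (hinj (funext fun t => ?_)))
  -- compose the two reflections
  obtain ⟨t₁, ht₁⟩ := hex _ hinv t
  obtain ⟨t₂, ht₂⟩ := hex n hn t₁
  rw [hA _ (hmulN _ _ hinv hn) m t t₂ (by rw [ht₂, ht₁]; group), ← hA n hn m t₁ t₂ ht₂, h]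
  have h4 : t ≫ iT = n₀⁻¹ * (t₁ ≫ iT) * n₀ := by rw [ht₁]; group
  have h6 := hA n₀ hn₀ m t₁ t h4
  rw [h'] at h6
  exact h6

end Groth.Agent.RedOpen
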