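import Groth.Agent.SolvGrp.LunaPair
import Groth.Agent.RedOpen.TorusLat

/-!
# A function vanishing exactly on a Borel subgroup when at most two fixed cosets exist
-/

set_option backward.isDefEq.respectTransparency false
set_option backward.isDefEq.respectTransparency.types false
set_option linter.style.haveILetI false
set_option autoImplicit false

universe u

open CategoryTheory MonoidalCategory CartesianMonoidalCategory MonObj AlgebraicGeometry
open scoped Matrix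

namespace Groth.Agent.RedOpen

open GrpSchLib GrpSchLib.Kunneth GrpSchLib.LineGroups GrpSchLib.ProjLine WeilCmp.Unip AGFLib AGFLib.Gen AGFLib.BorelFixed SolvGrp
open AGFLib.BorelExist AGFLib.QuotProper AGFLib.ProjAct

variable {k : Type u} [Field k] [IsAlgClosed k]

local notation "PT" => 𝟙_ (Over (Spec (CommRingCat.of k)))

variable {G T B : Over (Spec (CommRingCat.of k))} [GrpObj G] [GrpObj T] [GrpObj B] [IsAffine G.left] [Smooth G.hom]
  [ConnectedSpace G.left]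

set_option maxHeartbeats 1000000 in
/-- If a torus fixes at most the two cosets of `1` and `g₁`, then either the Borel subgroup is everything or some
function vanishes exactly on it and `g₁` lies outside. -/
theorem exists_cutting_function (iB : B ⟶ G) [IsMonHom iB] (hB : Red.IsBorelOver k iB) (iT : T ⟶ G) [IsMonHom iT]
    (hT : Red.IsTorus T) (g₁ : PT ⟶ G) (hg₀ : rangePts iT ≤ rangePts iB)
    (hg₁ : ∀ s ∈ rangePts iT, g₁⁻¹ * s * g₁ ∈ rangePts iB)
    (htwo : ∀ g : PT ⟶ G, (∀ s ∈ rangePts iT, g⁻¹ * s * g ∈ rangePts iB) →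
      g ∈ rangePts iB ∨ g₁⁻¹ * g ∈ rangePts iB) :
    rangePts iB = ⊤ ∨ (g₁ ∉ rangePts iB ∧ ∃ f : Fn G, ∀ g : PT ⟶ G, vl g f = 0 ↔ g ∈ rangePts iB) := by
  classical
  haveI := hB.2.1
  haveI := hB.2.2.1
  haveI : IsReduced G.left := isReduced_of_smooth_field G.hom
  obtain ⟨haT, hsT, hcT, -⟩ := torus_props hT
  haveI := haT
  haveI := hsT
  haveI : IsReduced T.left := isReduced_of_smooth_field T.hom
  obtain ⟨n, N, v₀, hv₀, hN, hfix, hstab, -⟩ := exists_borelRep iB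
  obtain ⟨F, hF, hFmem, -⟩ := exists_orbit iB hB hN v₀ hv₀ hfix
  obtain ⟨r, S, e, P, -, hinj, horth, hone, heig, hcurve⟩ := exists_decomp hT (isRepMatrix_restrict iT hN)
  let w : (PT ⟶ G) → Fin (n + 1) → k := fun g => (valM N g).mulVec v₀
  have hw : ∀ g, w g ≠ 0 := fun g => mulVec_ne_zero hN g hv₀
  -- eigenlines are the fixed cosets
  have hfixed : ∀ g, (∀ s ∈ rangePts iT, ∃ c : k, (valM N s).mulVec (w g) = c • w g) →
      ∀ s ∈ rangePts iT, g⁻¹ * s * g ∈ rangePts iB := fun g h s hs => hstab _ (by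
    obtain ⟨c, hc⟩ := h s hs
    refine ⟨c, ?_⟩
    rw [valM_mul hN, valM_mul hN, ← Matrix.mulVec_mulVec, ← Matrix.mulVec_mulVec]
    change (valM N g⁻¹).mulVec ((valM N s).mulVec (w g)) = _
    rw [hc, Matrix.mulVec_smul, show (valM N g⁻¹).mulVec (w g) = v₀ by
      show (valM N g⁻¹).mulVec ((valM N g).mulVec v₀) = v₀
      rw [Matrix.mulVec_mulVec, ← valM_mul hN, inv_mul_cancel, valM_one hN, Matrix.one_mulVec]])
  have hcoset : ∀ g g', g'⁻¹ * g ∈ rangePts iB → ∃ c : k, c ≠ 0 ∧ w g = c • w g' := by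
    intro g g' h
    obtain ⟨c, hc⟩ := hfix _ h
    have e1 : w g = c • w g' := by
      show (valM N g).mulVec v₀ = c • (valM N g').mulVec v₀
      rw [← Matrix.mulVec_smul, ← hc, Matrix.mulVec_mulVec, ← valM_mul hN, mul_inv_cancel_left]
    exact ⟨c, fun h0 => hw g (by rw [e1, h0, zero_smul]), e1⟩
  -- weights
  let Su : (PT ⟶ G) → Finset (Fin r → ℤ) := fun g => S.filter fun m => (P m).mulVec (w g) ≠ 0
  have hdecomp : ∀ g, w g = ∑ m ∈ Su g, (P m).mulVec (w g) := fun g => by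
    conv_lhs => rw [← Matrix.one_mulVec (w g), ← hone, Matrix.sum_mulVec]
    exact (Finset.sum_subset (Finset.filter_subset _ _) fun m hm hm' => by
      by_contra h; exact hm' (Finset.mem_filter.mpr ⟨hm, h⟩)).symm
  have hSne : ∀ g, (Su g).Nonempty := fun g => Finset.nonempty_iff_ne_empty.mpr fun h => hw g (by
    rw [hdecomp g, h, Finset.sum_empty])
  -- a fixed line has one weight
  have hweight : ∀ g, (∀ s ∈ rangePts iT, g⁻¹ * s * g ∈ rangePts iB) →
      ∃ m ∈ S, (P m).mulVec (w g) = w g := by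
    intro g hg
    obtain ⟨m, hm⟩ := hSne g
    obtain ⟨hmS, hmne⟩ := Finset.mem_filter.mp hm
    refine ⟨m, hmS, ?_⟩
    have key : ∀ m' ∈ Su g, m' = m := by
      intro m' hm'
      obtain ⟨hm'S, hm'ne⟩ := Finset.mem_filter.mp hm'
      by_contra hne
      obtain ⟨u₀, hu₀, hu1⟩ := exists_zpow_ne_one (k := k)
        (sub_ne_zero.mpr fun h : e m' = e m => hne (hinj m' hm'S m hmS h))
      obtain ⟨t, ht⟩ := hcurve u₀ hu₀
      obtain ⟨c, -, hc⟩ := hcoset ((t ≫ iT) * g) g (by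
        rw [← _root_.mul_assoc]
        exact hg _ ⟨t, rfl⟩)
      have h2 : (valM N (t ≫ iT)).mulVec (w g) = c • w g := by
        rw [← hc]
        show _ = (valM N (_ * g)).mulVec v₀
        rw [valM_mul hN, ← Matrix.mulVec_mulVec]
      have h3 : ∀ a ∈ S, u₀ ^ e a • (P a).mulVec (w g) = c • (P a).mulVec (w g) := fun a ha => by
        have h4 := congrArg (fun v => (P a).mulVec v) h2
        rw [Matrix.mulVec_smul, ← valM_restrict, ht, Matrix.sum_mulVec, Matrix.mulVec_sum] at h4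
        rw [Finset.sum_eq_single a (fun b hb hne => by
          rw [Matrix.smul_mulVec, Matrix.mulVec_smul, Matrix.mulVec_mulVec, horth a ha b hb, if_neg (Ne.symm hne),
            Matrix.zero_mulVec, smul_zero]) (fun h => absurd ha h), Matrix.smul_mulVec, Matrix.mulVec_smul,
          Matrix.mulVec_mulVec, horth a ha a ha, if_pos rfl] at h4
        exact h4
      have e1 := smul_left_injective k hm'ne (h3 m' hm'S)
      have e2 := smul_left_injective k hmne (h3 m hmS)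
      exact hu1 (by rw [zpow_sub₀ hu₀, e1, e2, div_self fun h => hm'ne (by
        have h5 := h3 m' hm'S
        rw [h, zero_smul] at h5
        exact (smul_eq_zero.mp h5).resolve_left (zpow_ne_zero _ hu₀))])
    have hs : Su g = {m} := Finset.eq_singleton_iff_unique_mem.mpr ⟨hm, key⟩
    conv_rhs => rw [hdecomp g, hs, Finset.sum_singleton]
  -- extreme weights give fixed lines
  have hlim : ∀ g m₀, m₀ ∈ Su g → ∀ σ : ℤ, (σ = 1 ∨ σ = -1) → (∀ m ∈ Su g, σ * e m ≤ σ * e m₀) →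
      ∃ g', (∀ s ∈ rangePts iT, g'⁻¹ * s * g' ∈ rangePts iB) ∧ (P m₀).mulVec (w g') = w g' ∧
        ∃ c : k, c ≠ 0 ∧ (P m₀).mulVec (w g) = c • w g' := by
    intro g m₀ hm₀ σ hσ hmax
    obtain ⟨hm₀S, hm₀ne⟩ := Finset.mem_filter.mp hm₀
    have hσinj : ∀ m ∈ Su g, m ≠ m₀ → σ * e m < σ * e m₀ := fun m hm hne =>
      lt_of_le_of_ne (hmax m hm) fun h => hne (hinj m (Finset.mem_filter.mp hm).1 m₀ hm₀S
        (mul_left_cancel₀ (by rcases hσ with rfl | rfl <;> decide) h))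
    let vv : (Fin r → ℤ) → Fin (n + 1) → k := fun m => (P m).mulVec (w g)
    obtain ⟨l, hl⟩ := Function.ne_iff.mp hm₀ne
    change vv m₀ l ≠ 0 at hl
    have hq : ∀ m ∈ S, ((vv m₀ l)⁻¹ • P m₀ l) ⬝ᵥ vv m = if m = m₀ then 1 else 0 := fun m hm => by
      have h1 : P m₀ l ⬝ᵥ vv m = ((P m₀ * P m).mulVec (w g)) l := by rw [← Matrix.mulVec_mulVec]; rfl
      rw [smul_dotProduct, h1, horth m₀ hm₀S m hm]
      rcases eq_or_ne m m₀ with h | h
      · subst h
        rw [if_pos rfl, if_pos rfl, smul_eq_mul]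
        exact inv_mul_cancel₀ hl
      · rw [if_neg (Ne.symm h), if_neg h, Matrix.zero_mulVec, Pi.zero_apply, smul_zero]
    have hz : cp (lineP (vv m₀) hm₀ne) ∈ F := limit_mem F hF (Su g) (fun m => σ * e m) vv m₀ hm₀ hmax _
      (by rw [hq m₀ hm₀S, if_pos rfl])
      (fun m hm hne => by rw [hq m (Finset.mem_filter.mp hm).1, if_neg hne]) hσinj
      (fun u hu hv => (hFmem _ hv).mpr (by
        obtain ⟨t, ht⟩ := hcurve (u ^ σ) (zpow_ne_zero _ hu)
        refine ⟨(t ≫ iT) * g, 1, ?_⟩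
        rw [one_smul, valM_mul hN, ← Matrix.mulVec_mulVec, ← valM_restrict, ht, Matrix.sum_mulVec]
        refine (Finset.sum_congr rfl fun m _ => ?_).trans
          (Finset.sum_subset (Finset.filter_subset _ _) fun m hm hm' => ?_)
        · rw [Matrix.smul_mulVec, ← zpow_mul]
        · rw [Matrix.smul_mulVec, show (P m).mulVec (w g) = 0 by
            by_contra h; exact hm' (Finset.mem_filter.mpr ⟨hm, h⟩), smul_zero])) hm₀ne
    obtain ⟨g', c, hc⟩ := (hFmem _ hm₀ne).mp hz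
    have hc0 : c ≠ 0 := fun h => hm₀ne (by show vv m₀ = 0; exact hc.trans (by rw [h, zero_smul]))
    have hP : (P m₀).mulVec (w g') = w g' := smul_right_injective (Fin (n + 1) → k) hc0 (by
      show c • (P m₀).mulVec (w g') = c • w g'
      rw [← Matrix.mulVec_smul, ← hc]
      show (P m₀).mulVec ((P m₀).mulVec (w g)) = (P m₀).mulVec (w g)
      rw [Matrix.mulVec_mulVec, horth m₀ hm₀S m₀ hm₀S, if_pos rfl])
    refine ⟨g', hfixed g' fun s hs => ?_, hP, c, hc0, hc⟩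
    obtain ⟨t, rfl⟩ := hs
    obtain ⟨a, ha⟩ := heig t m₀ hm₀S
    refine ⟨a, ?_⟩
    show (valM N (t ≫ iT)).mulVec (w g') = a • w g'
    conv_lhs => rw [← hP, Matrix.mulVec_mulVec, ← valM_restrict, ha, Matrix.smul_mulVec, hP]
  have hgB : ∀ g, (∀ s ∈ rangePts iT, g⁻¹ * s * g ∈ rangePts iB) → g ∈ rangePts iB ∨ g₁⁻¹ * g ∈ rangePts iB := htwo
  obtain ⟨μ₀, hμ₀S, hμ₀⟩ := hweight 1 (fun s hs => by simpa using hg₀ hs)
  obtain ⟨μ₁, hμ₁S, hμ₁⟩ := hweight g₁ hg₁
  have huniq : ∀ g m m', m ∈ S → m' ∈ S → (P m).mulVec (w g) = w g → (P m').mulVec (w g) = w g → m = m' := by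
    intro g m m' hm hm' h h'
    by_contra hne
    refine hw g ?_
    rw [← h', ← h, Matrix.mulVec_mulVec, horth m' hm' m hm, if_neg (Ne.symm hne), Matrix.zero_mulVec]
  have hwt : ∀ g m, m ∈ S → (∀ s ∈ rangePts iT, g⁻¹ * s * g ∈ rangePts iB) → (P m).mulVec (w g) = w g →
      (g ∈ rangePts iB ∧ m = μ₀) ∨ (g₁⁻¹ * g ∈ rangePts iB ∧ m = μ₁) := by
    intro g m hm hg hP
    rcases hgB g hg with h | h
    · obtain ⟨c, -, hc⟩ := hcoset g 1 (by simpa using h)
      refine Or.inl ⟨h, huniq g m μ₀ hm hμ₀S hP ?_⟩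
      rw [hc, Matrix.mulVec_smul, hμ₀]
    · obtain ⟨c, -, hc⟩ := hcoset g g₁ h
      refine Or.inr ⟨h, huniq g m μ₁ hm hμ₁S hP ?_⟩
      rw [hc, Matrix.mulVec_smul, hμ₁]
  have hext : ∀ g, ∃ a b, a ∈ Su g ∧ b ∈ Su g ∧ (∀ m ∈ Su g, e m ≤ e a) ∧ (∀ m ∈ Su g, e b ≤ e m) ∧
      (a = μ₀ ∨ a = μ₁) ∧ (b = μ₀ ∨ b = μ₁) := by
    intro g
    obtain ⟨a, ha, ha'⟩ := (Su g).exists_max_image e (hSne g)
    obtain ⟨b, hb, hb'⟩ := (Su g).exists_min_image e (hSne g)
    refine ⟨a, b, ha, hb, ha', hb', ?_, ?_⟩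
    · obtain ⟨g', hg', hP, -⟩ := hlim g a ha 1 (Or.inl rfl) (by simpa using ha')
      exact (hwt g' a (Finset.mem_filter.mp ha).1 hg' hP).imp (·.2) (·.2)
    · obtain ⟨g', hg', hP, -⟩ := hlim g b hb (-1) (Or.inr rfl) (by simpa using hb')
      exact (hwt g' b (Finset.mem_filter.mp hb).1 hg' hP).imp (·.2) (·.2)
  have hsingle : ∀ g a, a ∈ Su g → (∀ m ∈ Su g, m = a) →
      (∀ s ∈ rangePts iT, g⁻¹ * s * g ∈ rangePts iB) ∧ (P a).mulVec (w g) = w g := by
    intro g a ha h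
    have hP : (P a).mulVec (w g) = w g := by
      conv_rhs => rw [hdecomp g, Finset.eq_singleton_iff_unique_mem.mpr ⟨ha, h⟩, Finset.sum_singleton]
    refine ⟨hfixed g ?_, hP⟩
    rintro _ ⟨t, rfl⟩
    obtain ⟨c, hc⟩ := heig t a (Finset.mem_filter.mp ha).1
    refine ⟨c, ?_⟩
    show (valM N (t ≫ iT)).mulVec (w g) = c • w g
    conv_lhs => rw [← hP, Matrix.mulVec_mulVec, ← valM_restrict, hc, Matrix.smul_mulVec, hP]
  by_cases hμ : μ₀ = μ₁
  · refine Or.inl (eq_top_of_finite (rangePts iB) ?_ {1, g₁} (Set.toFinite _) fun g => ?_)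
    · obtain ⟨-, hlB, hqB, -, -⟩ := sub_props iB
      haveI := hlB
      haveI := hqB
      exact ptsClosed_range iB
    · obtain ⟨a, b, ha, hb, ha', hb', haμ, hbμ⟩ := hext g
      have hab : a = b := by rcases haμ with h | h <;> rcases hbμ with h' | h' <;> simp [h, h', hμ]
      have hall : ∀ m ∈ Su g, m = a := fun m hm => hinj m (Finset.mem_filter.mp hm).1 a (Finset.mem_filter.mp ha).1
        (le_antisymm (ha' m hm) (hab ▸ hb' m hm))
      rcases hgB g (hsingle g a ha hall).1 with h | h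
      · exact ⟨1, by simp, by simpa using h⟩
      · exact ⟨g₁, by simp, h⟩
  refine Or.inr ⟨fun h => hμ ?_, ?_⟩
  · rcases hwt g₁ μ₁ hμ₁S hg₁ hμ₁ with h' | h'
    · exact h'.2.symm
    · obtain ⟨c, -, hc⟩ := hcoset g₁ 1 (by simpa using h)
      exact (huniq g₁ μ₁ μ₀ hμ₁S hμ₀S hμ₁ (by rw [hc, Matrix.mulVec_smul, hμ₀])).symm
  obtain ⟨l, hl⟩ := Function.ne_iff.mp (hw g₁)
  change w g₁ l ≠ 0 at hl
  refine ⟨∑ j, algebraMap k (Fn G) (P μ₁ l j) * ∑ i, N j i * algebraMap k (Fn G) (v₀ i), fun g => ?_⟩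
  have hval : vl g (∑ j, algebraMap k (Fn G) (P μ₁ l j) * ∑ i, N j i * algebraMap k (Fn G) (v₀ i)) =
      ((P μ₁).mulVec (w g)) l := by
    simp only [map_sum, map_mul, AlgHom.commutes, Algebra.algebraMap_self, RingHom.id_apply]
    rfl
  rw [hval]
  constructor
  · intro hf
    obtain ⟨a, b, ha, hb, ha', hb', haμ, hbμ⟩ := hext g
    have hkey : ∀ m, m ∈ Su g → ∀ σ : ℤ, (σ = 1 ∨ σ = -1) → (∀ m' ∈ Su g, σ * e m' ≤ σ * e m) → m ≠ μ₁ := by
      intro m hm σ hσ hmax hmμ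
      obtain ⟨g', hg', hP, c, hc0, hc⟩ := hlim g m hm σ hσ hmax
      subst hmμ
      rcases hwt g' m hμ₁S hg' hP with h | h
      · exact hμ h.2.symm
      · obtain ⟨c', hc'0, hc'⟩ := hcoset g' g₁ h.1
        rw [hc, hc', smul_smul, Pi.smul_apply, smul_eq_mul] at hf
        exact mul_ne_zero (mul_ne_zero hc0 hc'0) hl hf
    have haa : a = μ₀ := haμ.resolve_right (hkey a ha 1 (Or.inl rfl) (by simpa using ha'))
    have hbb : b = μ₀ := hbμ.resolve_right (hkey b hb (-1) (Or.inr rfl) (by simpa using hb'))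
    have hall : ∀ m ∈ Su g, m = a := fun m hm => hinj m (Finset.mem_filter.mp hm).1 a (Finset.mem_filter.mp ha).1
      (le_antisymm (ha' m hm) (by rw [haa, ← hbb]; exact hb' m hm))
    obtain ⟨hfg, hP⟩ := hsingle g a ha hall
    rcases hwt g a (Finset.mem_filter.mp ha).1 hfg hP with h | h
    · exact h.1
    · exact absurd (haa.symm.trans h.2) hμ
  · intro h
    obtain ⟨c, -, hc⟩ := hcoset g 1 (by simpa using h)
    rw [hc, Matrix.mulVec_smul, ← hμ₀, Matrix.mulVec_mulVec, horth μ₁ hμ₁S μ₀ hμ₀S, if_neg (Ne.symm hμ),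
      Matrix.zero_mulVec, smul_zero]
    rfl

end Groth.Agent.RedOpen
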