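import Groth.Agent.RedOpen.CentFix
import Groth.Agent.SolvGrp.CentInter
import Groth.Agent.SolvGrp.CharExtend

/-!
# A group is reductive when the centralisers of its corank one subtori are
-/

universe u

open CategoryTheory CategoryTheory.Limits MonoidalCategory CartesianMonoidalCategory MonObj AlgebraicGeometry
open TensorProduct WithConv

set_option backward.isDefEq.respectTransparency false
set_option backward.isDefEq.respectTransparency.types false
set_option linter.style.haveILetI false
set_option synthInstance.maxHeartbeats 200000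
set_option maxHeartbeats 1000000
set_option autoImplicit false

namespace Groth.Agent.RedOpen

open GrpSchLib GrpSchLib.AffineHopf RedRank.CentreWeights RedRank.CentreLocal SolvGrp

variable {R : Type u} [CommRing R] {k : Type u} [Field k] [IsAlgClosed k] [Algebra R k]
  {A : Type u} [CommRing A] [HopfAlgebra R A] {M : Type} [AddCommGroup M]
  (f : A →ₐc[R] MonoidAlgebra R (Multiplicative M))

/-- A fibre is reductive when, for the weights of the generators, the centralisers of the subtori they cut out
are reductive. -/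
theorem reductive_of_centralizers [Smooth (Red.bc (basePt R k) (sp R A)).hom]
    [ConnectedSpace (Red.bc (basePt R k) (sp R A)).left] (s : Finset A) (hs : Algebra.adjoin R (s : Set A) = ⊤)
    (H : ∀ m : M, (∃ a ∈ s, RedRank.CentreWeights.comp f (Multiplicative.ofAdd m) a ≠ 0) →
      ∃ N : AddSubgroup M, m ∈ N ∧ Red.IsTorus (sp R (MonoidAlgebra R (Multiplicative (M ⧸ N)))) ∧
        ∃ (Z : Over (Spec (CommRingCat.of R))) (_ : GrpObj Z) (z : Z ⟶ sp R A),
          Red.IsCentralizerOf (sub R N ≫ incl f) z ∧ Red.IsReductiveOver k (Red.bc (basePt R k) Z)) :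
    Red.IsReductiveOver k (Red.bc (basePt R k) (sp R A)) := by
  haveI : IsAffine (sp R A).left := inferInstanceAs (IsAffine (Spec _))
  haveI : IsAffine (Red.bc (basePt R k) (sp R A)).left :=
    inferInstanceAs (IsAffine (pullback (sp R A).hom (basePt R k)))
  refine ⟨inferInstance, inferInstance, inferInstance, fun U _ i _ hci hsU hcU hnorm hnt => ?_⟩
  haveI := hci; haveI := hsU; haveI := hcU
  by_contra hU
  obtain ⟨m, hm, x, hx, hcent⟩ := exists_centralized_tangent f s hs i hnorm hU
  obtain ⟨N, hmN, hT, Z, _, z, hz, hred⟩ := H m hm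
  haveI : IsMonHom (sub R N ≫ incl f) := inferInstance
  haveI : (Over.pullback (basePt R k)).IsRightAdjoint := (Over.mapPullbackAdj (basePt R k)).isRightAdjoint
  let iS := (Over.pullback (basePt R k)).map (sub R N ≫ incl f)
  let c := (Over.pullback (basePt R k)).map z
  have hc : Red.IsCentralizerOf iS c := isCentralizerOf_bc (basePt R k) _ _ hz
  haveI := hc.1; haveI := hc.2.1
  haveI : Mono i := (Over.forget _).mono_of_mono_map (inferInstanceAs (Mono i.left))
  let I := Limits.pullback c i
  let p : I ⟶ Red.bc (basePt R k) Z := Limits.pullback.fst c i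
  let r : I ⟶ U := Limits.pullback.snd c i
  have hI : IsPullback p r c i := IsPullback.of_hasPullback c i
  haveI : Mono p := inferInstanceAs (Mono (Limits.pullback.fst c i))
  haveI : Mono r := inferInstanceAs (Mono (Limits.pullback.snd c i))
  haveI : IsClosedImmersion p.left :=
    MorphismProperty.of_isPullback (P := @IsClosedImmersion) (hI.map (Over.forget _)).flip hci
  obtain ⟨strI, hpm⟩ : ∃ str : GrpObj I, letI := str; IsMonHom p := by
    refine exists_grpObj_of_mono p
      (hI.lift η[Red.bc (basePt R k) Z] η[U] (by rw [IsMonHom.one_hom c, IsMonHom.one_hom i]))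
      (hI.lift_fst _ _ _) (hI.lift ((fst I I ≫ p) * (snd I I ≫ p)) ((fst I I ≫ r) * (snd I I ≫ r)) (by
        simp only [MonObj.mul_comp, Category.assoc, hI.w])) (hI.lift_fst _ _ _)
      (hI.lift p⁻¹ r⁻¹ (by simp only [GrpObj.inv_comp, hI.w])) (hI.lift_fst _ _ _)
  letI := strI
  haveI := hpm
  haveI : IsMonHom r := AGFLib.isMonHom_of_mul r fun X a b => by
    rw [← cancel_mono i]
    simp only [MonObj.mul_comp, Category.assoc, ← hI.w]
  have hTk : Red.IsTorus (Red.bc (basePt R k) (sp R (MonoidAlgebra R (Multiplicative (M ⧸ N))))) := isTorus_bc _ hT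
  have hn : ∀ (X : Over (Spec (CommRingCat.of k)))
      (t : X ⟶ Red.bc (basePt R k) (sp R (MonoidAlgebra R (Multiplicative (M ⧸ N))))) (h : X ⟶ U),
      ∃ h' : X ⟶ U, (t ≫ iS) * (h ≫ i) * (t ≫ iS)⁻¹ = h' ≫ i := fun X t h => hnorm X (t ≫ iS) h
  haveI : Smooth I.hom := smooth_centInter iS hTk c hc i hn p r hI
  haveI : ConnectedSpace I.left := connectedSpace_centInter iS hTk c hc i hn p r hI
  have hnI : AlgGrp.IsNormalHom p := fun X g n => by
    obtain ⟨n', hn'⟩ := hnorm X (g ≫ c) (n ≫ r)
    have h1 : (g * (n ≫ p) * g⁻¹) ≫ c = n' ≫ i := by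
      rw [← hn', MonObj.mul_comp, MonObj.mul_comp, GrpObj.inv_comp]
      simp only [Category.assoc, hI.w]
    exact ⟨hI.lift _ n' h1, (hI.lift_fst _ _ _).symm⟩
  have hntI : Red.HasNoSubtorus k I := fun T _ j _ _ hT => hnt T (j ≫ r) hT
  have htriv : IsIso I.hom := hred.2.2.2 I p inferInstance inferInstance inferInstance hnI hntI
  obtain ⟨w, hw⟩ := (hc.2.2 _ (x ≫ i)).mpr fun X' y h => hcent N hmN X' y h
  obtain ⟨l, -, hl⟩ : ∃ l : sp k (DualNumber k) ⟶ I, l ≫ p = w ∧ l ≫ r = x :=
    ⟨hI.lift w x hw, hI.lift_fst _ _ _, hI.lift_snd _ _ _⟩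
  refine hx ?_
  have hl1 : l = 1 := Over.OverMorphism.ext (by rw [← cancel_mono I.hom, Over.w, Over.w])
  rw [← hl, hl1, MonObj.one_comp, MonObj.one_comp]

end Groth.Agent.RedOpen
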