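import Groth.Agent.RedOpen.NhdCent
import Groth.Agent.RedOpen.OfCent
import Groth.Agent.RedRank.ReductiveRank
import Groth.Agent.RedRank.SplitMax
import Groth.Agent.RedRank.Semi
import Groth.Agent.SolvGrp.UnipBC
import Groth.Agent.SolvGrp.Descent
import Groth.Agent.GrpSchLib.AntiAffineHom

/-!
# Openness of the reductive locus
-/

universe u

open CategoryTheory CategoryTheory.Limits MonoidalCategory CartesianMonoidalCategory MonObj AlgebraicGeometry
open TensorProduct WithConv

set_option backward.isDefEq.respectTransparency false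
set_option backward.isDefEq.respectTransparency.types false
set_option linter.style.haveILetI false
set_option synthInstance.maxHeartbeats 200000
set_option maxHeartbeats 2000000
set_option autoImplicit false

namespace Groth.Agent.RedOpen

open GrpSchLib GrpSchLib.AffineHopf RedRank.CentreLocal SolvGrp

/-- A maximal torus stays maximal after an isomorphism at the source. -/
theorem isMaximalTorus_precomp {S : Scheme.{u}} {G T T' : Over S} [GrpObj G] [GrpObj T] [GrpObj T'] {i : T ⟶ G}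
    (hi : Red.IsMaximalTorus i) (φ : T' ⟶ T) [IsMonHom φ] [IsIso φ] : Red.IsMaximalTorus (φ ≫ i) := by
  haveI := hi.1
  haveI := hi.2.1
  refine ⟨inferInstance, inferInstance, isTorus_of_grpIso (Grp.mkIso' (asIso φ)) hi.2.2.1,
    fun s T₁ _ j _ _ g hT₁ hg => ?_⟩
  haveI : (Over.pullback (Red.geomPt s)).IsRightAdjoint := (Over.mapPullbackAdj (Red.geomPt s)).isRightAdjoint
  have h := hi.2.2.2 s T₁ j (inv ((Over.pullback (Red.geomPt s)).map φ) ≫ g) hT₁ (by
    rw [Category.assoc, hg, Functor.map_comp, IsIso.inv_hom_id_assoc])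
  exact IsIso.of_isIso_comp_left (inv ((Over.pullback (Red.geomPt s)).map φ)) g

/-- Reductivity descends along extensions of algebraically closed fields. -/
theorem reductive_of_bc {k K : Type u} [Field k] [IsAlgClosed k] [Field K] [IsAlgClosed K] (φ : k →+* K)
    {G : Over (Spec (CommRingCat.of k))} [GrpObj G] [IsAffine G.left] [Smooth G.hom] [ConnectedSpace G.left]
    (h : Red.IsReductiveOver K (Red.bc (Spec.map (CommRingCat.ofHom φ)) G)) : Red.IsReductiveOver k G := by
  let σ := Spec.map (CommRingCat.ofHom φ)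
  haveI : (Over.pullback σ).IsRightAdjoint := (Over.mapPullbackAdj σ).isRightAdjoint
  refine ⟨inferInstance, inferInstance, inferInstance, fun U _ i _ hci hsU hcU hn hnt => ?_⟩
  haveI := hci; haveI := hsU; haveI := hcU
  haveI : IsAffine U.left := isAffine_of_isAffineHom i.left
  haveI : IsClosedImmersion ((Over.pullback σ).map i).left :=
    MorphismProperty.of_isPullback (P := @IsClosedImmersion) (MaxTorusBC.isPullback_map σ i) inferInstance
  have h1 : IsIso (Red.bc σ U).hom := h.2.2.2 (Red.bc σ U) ((Over.pullback σ).map i) inferInstance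
    (inferInstanceAs (Smooth (pullback.snd U.hom σ))) (AntiAffine.connectedSpace_bc U φ)
    (isNormalHom_bc σ i hn) (UnipBC.hasNoSubtorus_bc_algClosed σ hnt)
  haveI : Surjective σ := ⟨fun x => ⟨IsLocalRing.closedPoint K,
    haveI := FibDim.subsingleton_spec_field k; Subsingleton.elim _ _⟩⟩
  haveI : Flat σ := by
    rw [HasRingHomProperty.Spec_iff (P := @Flat)]
    exact RingHom.Flat.of_isField (Field.toIsField k) _
  haveI : QuasiCompact σ := inferInstanceAs (QuasiCompact (Spec.map _))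
  have h2 : MorphismProperty.isomorphisms Scheme (pullback.snd U.hom σ) := h1
  exact MorphismProperty.of_pullback_snd_of_descendsAlong
    (P := MorphismProperty.isomorphisms Scheme) (Q := @Surjective ⊓ @Flat ⊓ @QuasiCompact)
    ⟨⟨inferInstance, inferInstance⟩, inferInstance⟩ h2

/-- A reductive fibre at a field valued point gives a reductive geometric fibre. -/
theorem reductive_geomFibre {S : Scheme.{u}} {G : Over S} [GrpObj G] [IsAffineHom G.hom] [Smooth G.hom]
    (hconn : ∀ t : S, _root_.IsConnected (G.hom.base ⁻¹' {t})) {K : Type u} [Field K] [IsAlgClosed K]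
    (b : Spec (CommRingCat.of K) ⟶ S) (h : Red.IsReductiveOver K (Red.bc b G)) (t : S)
    (ht : b (IsLocalRing.closedPoint K) = t) :
    Red.IsReductiveOver (AlgebraicClosure (S.residueField t)) (Red.geomFibre t G) := by
  obtain ⟨τ, -, hτ⟩ := RedRank.exists_residue_lift b t ht
  letI : Algebra (S.residueField t) K := (Spec.preimage τ).hom.toAlgebra
  let ψ : AlgebraicClosure (S.residueField t) →ₐ[S.residueField t] K := IsAlgClosed.lift
  have e : Spec.map (CommRingCat.ofHom ψ.toRingHom) ≫ Red.geomPt t = b := by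
    show _ ≫ Spec.map _ ≫ _ = b
    rw [← Category.assoc, ← Spec.map_comp, ← hτ]
    congr 1
    rw [← Spec.map_preimage τ]
    congr 1
    ext a
    exact ψ.commutes a
  haveI : IsAffineHom (pullback.snd G.hom (Red.geomPt t)) :=
    MorphismProperty.pullback_snd (P := @IsAffineHom) _ _ inferInstance
  haveI : IsAffine (Red.geomFibre t G).left := isAffine_of_isAffineHom (pullback.snd G.hom (Red.geomPt t))
  haveI : Smooth (Red.geomFibre t G).hom := inferInstanceAs (Smooth (pullback.snd G.hom (Red.geomPt t)))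
  haveI : ConnectedSpace (Red.geomFibre t G).left := connectedSpace_bc_point (Red.geomPt t) hconn
  obtain ⟨e₁⟩ := MultTypeBC.bc_bc (Spec.map (CommRingCat.ofHom ψ.toRingHom)) (Red.geomPt t) G
  obtain ⟨e₂⟩ := MultTypeBC.bc_congr e G
  exact reductive_of_bc ψ.toRingHom (isReductiveOver_congr₀ (e₁ ≪≫ e₂).symm h)

/-- With a split maximal torus the reductive fibres are stable nearby. -/
theorem exists_nhd_split {R : Type u} [CommRing R] {A : Type u} [CommRing A] [HopfAlgebra R A] {r : ℕ}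
    (f : A →ₐc[R] MonoidAlgebra R (Multiplicative (Fin r → ℤ))) [Smooth (sp R A).hom]
    (hconn : ∀ t : ↥(Spec (CommRingCat.of R)), _root_.IsConnected ((sp R A).hom.base ⁻¹' {t}))
    (hmax : Red.IsMaximalTorus (incl f)) {k₀ : Type u} [Field k₀] [IsAlgClosed k₀]
    (y : Spec (CommRingCat.of k₀) ⟶ Spec (CommRingCat.of R))
    (hy : Red.IsReductiveOver k₀ (Red.bc y (sp R A))) :
    ∃ V : (Spec (CommRingCat.of R)).Opens, y (IsLocalRing.closedPoint k₀) ∈ V ∧
      ∀ (K : Type u) [Field K] [IsAlgClosed K] (b : Spec (CommRingCat.of K) ⟶ Spec (CommRingCat.of R)),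
        b (IsLocalRing.closedPoint K) ∈ V → Red.IsReductiveOver K (Red.bc b (sp R A)) := by
  classical
  haveI : Smooth (Spec.map (CommRingCat.ofHom (algebraMap R A))) := ‹Smooth (sp R A).hom›
  haveI : Algebra.Smooth R A := RingHom.smooth_algebraMap.mp
    ((HasRingHomProperty.Spec_iff (P := @Smooth)).mp ‹Smooth (Spec.map (CommRingCat.ofHom (algebraMap R A)))›)
  obtain ⟨s, hs⟩ := (inferInstance : Algebra.FiniteType R A).out
  let E : Finset (Fin r → ℤ) :=
    s.biUnion fun a => (RedRank.CentreWeights.coact f a).coeff.support.image Multiplicative.toAdd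
  choose mu hmu hprim using fun m : Fin r → ℤ => exists_primitive m
  choose Z hgZ z hz V hV hred using fun m : Fin r → ℤ =>
    exists_nhd_centralizer f hconn hmax y hy (mu m) (AddSubgroup.zmultiples (mu m)) rfl (hprim m)
  refine ⟨⟨⋂ m ∈ E, (V m : Set ↥(Spec (CommRingCat.of R))), E.finite_toSet.isOpen_biInter fun m _ => (V m).2⟩,
    Set.mem_iInter₂.mpr fun m _ => hV m, fun K _ _ b hb => ?_⟩
  letI : Algebra R K := (Spec.preimage b).hom.toAlgebra
  have hbase : basePt R K = b := Spec.map_preimage b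
  haveI : Smooth (Red.bc (basePt R K) (sp R A)).hom := inferInstanceAs (Smooth (pullback.snd (sp R A).hom _))
  haveI : ConnectedSpace (Red.bc (basePt R K) (sp R A)).left := connectedSpace_bc_point _ hconn
  have h := reductive_of_centralizers f (k := K) s hs fun m ⟨a, ha, hm⟩ =>
    ⟨AddSubgroup.zmultiples (mu m), hmu m, isTorus_quot R _ (hprim m), Z m, hgZ m, z m, hz m, by
      have hmE : m ∈ E := Finset.mem_biUnion.mpr ⟨a, ha, Finset.mem_image.mpr
        ⟨Multiplicative.ofAdd m, Finsupp.mem_support_iff.mpr hm, rfl⟩⟩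
      obtain ⟨e⟩ := MultTypeBC.bc_congr hbase (Z m)
      exact isReductiveOver_congr₀ e.symm (hred m K b (Set.mem_iInter₂.mp hb m hmE))⟩
  obtain ⟨e⟩ := MultTypeBC.bc_congr hbase (sp R A)
  exact isReductiveOver_congr₀ e h

/-- Near a reductive geometric fibre there is, étale locally, a split maximal torus and the geometric fibres
are reductive. -/
theorem exists_etale_nhd {S : Scheme.{u}} {G : Over S} [GrpObj G] [IsAffineHom G.hom] [Smooth G.hom]
    (hconn : ∀ t : S, _root_.IsConnected (G.hom.base ⁻¹' {t})) (s₀ : S)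
    (h₀ : Red.IsReductiveOver (AlgebraicClosure (S.residueField s₀)) (Red.geomFibre s₀ G)) :
    ∃ (B : Type u) (_ : CommRing B) (v : Spec (CommRingCat.of B) ⟶ S), Etale v ∧ s₀ ∈ Set.range v.base ∧
      (∀ (K : Type u) [Field K] [IsAlgClosed K] (b : Spec (CommRingCat.of K) ⟶ Spec (CommRingCat.of B)),
        Red.IsReductiveOver K (Red.bc (b ≫ v) G)) ∧
      ∃ (T : Over (Spec (CommRingCat.of B))) (_ : GrpObj T) (i : T ⟶ Red.bc v G), Red.IsMaximalTorus i ∧
        ∃ r : ℕ, Red.IsSplitTorusWith (Fin r → ℤ) T := by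
  obtain ⟨B₀, _, v₀, hv₀, hs₀, T₀, _, i₀, hi₀, r, hsplit⟩ := RedRank.exists_split_maximal hconn s₀
    fun T _ i hi X g h => by
      obtain ⟨t, ht⟩ := ((RedRank.ReductiveRank.selfCent_over h₀ hi).2.2 X g).mpr h
      exact ⟨t, ht.symm⟩
  haveI := hv₀
  haveI := hi₀.1; haveI := hi₀.2.1
  obtain ⟨τ, hτ⟩ := RedRank.exists_lift_geomPt v₀ s₀ hs₀
  let G₀ := Red.bc v₀ G
  haveI : IsAffineHom (pullback.snd G.hom v₀) := MorphismProperty.pullback_snd (P := @IsAffineHom) _ _ inferInstance
  haveI : IsAffine G₀.left := isAffine_of_isAffineHom (pullback.snd G.hom v₀)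
  obtain ⟨A, _, _, ⟨eA⟩⟩ := exists_hopf G₀
  obtain ⟨eD⟩ := nonempty_DS_iso B₀ (Fin r → ℤ)
  obtain ⟨eT⟩ := hsplit
  let φT : sp B₀ (MonoidAlgebra B₀ (Multiplicative (Fin r → ℤ))) ⟶ T₀ := (eD ≪≫ eT.symm).hom.hom.hom
  let φA : sp B₀ A ⟶ G₀ := eA.hom.hom.hom
  let ψA : G₀ ⟶ sp B₀ A := eA.inv.hom.hom
  haveI : IsMonHom φT := (eD ≪≫ eT.symm).hom.hom.isMonHom_hom
  haveI : IsMonHom φA := eA.hom.hom.isMonHom_hom
  haveI : IsMonHom ψA := eA.inv.hom.isMonHom_hom
  haveI : IsIso φT := ((Grp.forget _).mapIso (eD ≪≫ eT.symm)).isIso_hom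
  haveI : IsIso φA := ((Grp.forget _).mapIso eA).isIso_hom
  haveI : IsIso ψA := ((Grp.forget _).mapIso eA).isIso_inv
  have hψφ : ψA ≫ φA = 𝟙 G₀ := ((Grp.forget _).mapIso eA).inv_hom_id
  have hφψ : φA ≫ ψA = 𝟙 _ := ((Grp.forget _).mapIso eA).hom_inv_id
  let j : sp B₀ (MonoidAlgebra B₀ (Multiplicative (Fin r → ℤ))) ⟶ sp B₀ A := φT ≫ i₀ ≫ ψA
  haveI : IsMonHom j := inferInstanceAs (IsMonHom (φT ≫ i₀ ≫ ψA))
  obtain ⟨f, hf⟩ := exists_bialgHom j
  haveI : Smooth G₀.hom := inferInstanceAs (Smooth (pullback.snd G.hom v₀))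
  haveI : IsIso φA.left := Functor.map_isIso (Over.forget _) φA
  haveI : Smooth (sp B₀ A).hom := by
    rw [← Over.w φA]
    infer_instance
  have hmax : Red.IsMaximalTorus (incl f) := by
    rw [show incl f = j from hf.symm]
    exact isMaximalTorus_precomp (MaxTorCent.isMaximalTorus_comp_iso hi₀ ψA) φT
  have hconn₀ : ∀ t, _root_.IsConnected (G₀.hom.base ⁻¹' {t}) := fun t =>
    SmoothWeilLib.isConnected_preimage_snd hconn v₀ t
  have hconnA : ∀ t, _root_.IsConnected ((sp B₀ A).hom.base ⁻¹' {t}) := fun t => by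
    have := (hconn₀ t).image ψA.left ((Scheme.Hom.continuous _).continuousOn)
    convert this using 1
    ext x
    constructor
    · intro hx
      refine ⟨φA.left x, ?_, ?_⟩
      · show G₀.hom _ = t
        rw [← Scheme.Hom.comp_apply, Over.w]
        exact hx
      · rw [← Scheme.Hom.comp_apply, ← Over.comp_left, hφψ]
        rfl
    · rintro ⟨z, hz, rfl⟩
      show (sp B₀ A).hom _ = t
      rw [← Scheme.Hom.comp_apply, Over.w]
      exact hz
  obtain ⟨e₁⟩ := MultTypeBC.bc_bc τ v₀ G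
  obtain ⟨e₂⟩ := MultTypeBC.bc_congr hτ G
  obtain ⟨e₃⟩ := MultTypeBC.bc_iso τ eA
  obtain ⟨V, hyV, hV⟩ := exists_nhd_split f hconnA hmax τ (isReductiveOver_congr₀ (e₃ ≪≫ e₁ ≪≫ e₂).symm h₀)
  obtain ⟨W, hW, hyW, hWV⟩ := exists_isAffineOpen_mem_and_subset hyV
  let l : Spec (CommRingCat.of Γ(Spec (CommRingCat.of B₀), W)) ⟶ Spec (CommRingCat.of B₀) := hW.fromSpec
  haveI : IsOpenImmersion l := inferInstanceAs (IsOpenImmersion hW.fromSpec)
  haveI : (Over.pullback l).IsRightAdjoint := (Over.mapPullbackAdj l).isRightAdjoint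
  haveI := GrpLimLib.isMonHom_cmp (rfl : l ≫ v₀ = _) G
  refine ⟨Γ(Spec (CommRingCat.of B₀), W), inferInstance, l ≫ v₀, inferInstance, ⟨hW.primeIdealOf ⟨_, hyW⟩, ?_⟩,
    fun K _ _ b => ?_, Red.bc l T₀, inferInstance, (Over.pullback l).map i₀ ≫ (GrpLimLib.cmp (rfl : l ≫ v₀ = _) G).hom,
    ?_, r, ?_⟩
  · rw [Scheme.Hom.comp_apply]
    show v₀ (hW.fromSpec (hW.primeIdealOf ⟨_, hyW⟩)) = s₀
    rw [hW.fromSpec_primeIdealOf, ← Scheme.Hom.comp_apply, hτ]
    exact geomPt_closedPoint s₀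
  · have hb : (b ≫ l) (IsLocalRing.closedPoint K) ∈ V := hWV (by
      rw [Scheme.Hom.comp_apply]
      show l (b (IsLocalRing.closedPoint K)) ∈ (W : Set _)
      rw [← hW.range_fromSpec]
      exact Set.mem_range_self _)
    obtain ⟨e₄⟩ := MultTypeBC.bc_iso (b ≫ l) eA
    obtain ⟨e₅⟩ := MultTypeBC.bc_bc (b ≫ l) v₀ G
    obtain ⟨e₆⟩ := MultTypeBC.bc_congr (Category.assoc b l v₀) G
    exact isReductiveOver_congr₀ (e₄ ≪≫ e₅ ≪≫ e₆) (hV K (b ≫ l) hb)
  · exact MaxTorCent.isMaximalTorus_comp_iso (MaxTorCent.isMaximalTorus_bc hi₀ l) _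
  · obtain ⟨e₇⟩ := MultTypeBC.bc_iso l eT
    obtain ⟨e₈⟩ := MultTypeBC.bc_DS l (Fin r → ℤ)
    exact ⟨e₇ ≪≫ e₈⟩

/-- The reductive locus of a smooth affine group with connected fibres is open. -/
theorem isOpen_reductive {S : Scheme.{u}} {G : Over S} [GrpObj G] [IsAffineHom G.hom] [Smooth G.hom]
    (hconn : ∀ t : S, _root_.IsConnected (G.hom.base ⁻¹' {t})) :
    IsOpen {s : S | Red.IsReductiveOver (AlgebraicClosure (S.residueField s)) (Red.geomFibre s G)} := by
  refine isOpen_iff_forall_mem_open.mpr fun s₀ h₀ => ?_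
  obtain ⟨B, _, v, hv, hs₀, hred, -⟩ := exists_etale_nhd hconn s₀ h₀
  haveI := hv
  refine ⟨Set.range v.base, ?_, v.isOpenMap.isOpen_range, hs₀⟩
  intro t ht
  obtain ⟨τ, hτ⟩ := RedRank.exists_lift_geomPt v t ht
  obtain ⟨e⟩ := MultTypeBC.bc_congr hτ G
  exact isReductiveOver_congr₀ e (hred _ τ)

end Groth.Agent.RedOpen
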