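import Groth.Agent.RedOpen.Dim
import Groth.Agent.RedOpen.CentFix
import Groth.Agent.RedRank.TorusDim
import Groth.Agent.SolvGrp.Reductive2
import Groth.Agent.SolvGrp.OverClosed

/-!
# The centraliser of a corank one subtorus on a reductive fibre
-/

universe u

open CategoryTheory CategoryTheory.Limits MonoidalCategory CartesianMonoidalCategory MonObj AlgebraicGeometry
open TensorProduct WithConv

set_option backward.isDefEq.respectTransparency false
set_option backward.isDefEq.respectTransparency.types false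
set_option linter.style.haveILetI false
set_option synthInstance.maxHeartbeats 200000
set_option maxHeartbeats 1000000
set_option autoImplicit false

namespace Groth.Agent.RedOpen

open GrpSchLib GrpSchLib.AffineHopf GrpSchLib.Kunneth RedRank.CentreWeights RedRank.CentreLocal SolvGrp AVTors
open WeilCmp.Unip AGFLib

variable {k : Type u} [Field k]

local notation "PT" => 𝟙_ (Over (Spec (CommRingCat.of k)))

/-- The rational point as a spectrum. -/
noncomputable def ptIso (k : Type u) [Field k] : 𝟙_ (Over (Spec (CommRingCat.of k))) ≅ sp k k :=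
  Over.isoMk (Iso.refl _) (by
    show 𝟙 _ ≫ Spec.map (CommRingCat.ofHom (algebraMap k k)) = 𝟙 _
    rw [Category.id_comp, ← Spec.map_id]
    rfl)

theorem vl_ptIso_spMap {B : Type u} [CommRing B] [Algebra k B] (φ : B →ₐ[k] k) (b : B) :
    vl ((ptIso k).hom ≫ spMap φ) (SplitTorusPoints.fnSp k B b) = φ b := by
  rw [← vl_ev]
  rw [SplitTorusPoints.ev_spMap]
  exact DFunLike.congr_fun (Subsingleton.elim
    (((vl (ptIso k).hom)).comp (SplitTorusPoints.fnSp k k).toAlgHom) (AlgHom.id k k)) (φ b)

variable {R : Type u} [CommRing R] [Algebra R k] {M : Type} [AddCommGroup M]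

/-- The functions given by the characters on the fibre of a split torus. -/
theorem exists_charFn (mu : M) :
    ∃ F : Fn (Red.bc (basePt R k) (sp R (MonoidAlgebra R (Multiplicative M)))),
      ∀ t : PT ⟶ Red.bc (basePt R k) (sp R (MonoidAlgebra R (Multiplicative M))),
        ∃ b : MonoidAlgebra R (Multiplicative M) →ₐ[R] k, t = (ptIso k).hom ≫ cls (toConv b) ∧
          vl t F = b (MonoidAlgebra.single (Multiplicative.ofAdd mu) 1) := by
  let X := Red.bc (basePt R k) (sp R (MonoidAlgebra R (Multiplicative M)))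
  haveI : IsAffine (sp R (MonoidAlgebra R (Multiplicative M))).left := inferInstanceAs (IsAffine (Spec _))
  haveI : IsAffine X.left := inferInstanceAs (IsAffine (pullback _ (basePt R k)))
  obtain ⟨B, _, _, ⟨e⟩⟩ := exists_hopf X
  letI : Algebra R B := ((algebraMap k B).comp (algebraMap R k)).toAlgebra
  haveI : IsScalarTower R k B := IsScalarTower.of_algebraMap_eq fun _ => rfl
  haveI : IsIso e.hom.hom.hom := ((Grp.forget _).mapIso e).isIso_hom
  obtain ⟨bu', hbu⟩ := (cls (k := k) (A := MonoidAlgebra R (Multiplicative M)) (B := B)).surjective e.hom.hom.hom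
  obtain ⟨bu, rfl⟩ : ∃ b, bu' = toConv b := ⟨bu'.ofConv, rfl⟩
  refine ⟨ev (inv e.hom.hom.hom) (SplitTorusPoints.fnSp k B (bu (MonoidAlgebra.single (Multiplicative.ofAdd mu) 1))),
    fun t => ?_⟩
  obtain ⟨φ, hφ⟩ := SplitTorusPoints.exists_eq_spMap' ((ptIso k).inv ≫ t ≫ inv e.hom.hom.hom)
  refine ⟨(φ.restrictScalars R).comp bu, ?_, ?_⟩
  · rw [← spMap_comp_cls, hbu, ← hφ]
    simp
  · rw [vl_ev, show t ≫ inv e.hom.hom.hom = (ptIso k).hom ≫ spMap φ by rw [← hφ, Iso.hom_inv_id_assoc],
      vl_ptIso_spMap]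
    rfl

variable [IsAlgClosed k] {A : Type u} [CommRing A] [HopfAlgebra R A] (f : A →ₐc[R] MonoidAlgebra R (Multiplicative M))
  {Z : Over (Spec (CommRingCat.of R))} [GrpObj Z] {z : Z ⟶ sp R A}
  {a : sp R (MonoidAlgebra R (Multiplicative M)) ⟶ Z}

/-- On a reductive fibre the centraliser of the subtorus killed by a character is reductive of semisimple rank at
most one. -/
theorem centralizer_fibre {b₀ : Spec (CommRingCat.of k) ⟶ Spec (CommRingCat.of R)} (hb : basePt R k = b₀)
    (hG : Red.IsReductiveOver k (Red.bc b₀ (sp R A)))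
    (hT : AGF.IsMaxTorus ((Over.pullback b₀).map (incl f))) (mu : M) (N : AddSubgroup M) (hN : N = AddSubgroup.zmultiples mu)
    (hS : Red.IsTorus (sp R (MonoidAlgebra R (Multiplicative (M ⧸ N))))) [Mono (incl f)]
    (hz : Red.IsCentralizerOf (sub R N ≫ incl f) z) [IsMonHom a] (ha : a ≫ z = incl f) :
    Red.IsReductiveOver k (Red.bc b₀ Z) ∧
      AGF.IsMaxTorus ((Over.pullback b₀).map a) ∧
      topologicalKrullDim ↥(Red.bc b₀ Z).left ≤
        topologicalKrullDim ↥(Red.bc b₀ (sp R (MonoidAlgebra R (Multiplicative M)))).left + 2 ∧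
      ((∀ n : PT ⟶ Red.bc b₀ Z, (∀ s ∈ rangePts ((Over.pullback b₀).map a), n⁻¹ * s * n ∈ rangePts ((Over.pullback b₀).map a)) →
          ∀ s ∈ rangePts ((Over.pullback b₀).map a), Commute n s) →
        rangePts ((Over.pullback b₀).map a) = ⊤) := by
  subst hb
  let F₀ := Over.pullback (basePt R k)
  haveI : F₀.IsRightAdjoint := (Over.mapPullbackAdj (basePt R k)).isRightAdjoint
  haveI := hG.1; haveI := hG.2.1; haveI := hG.2.2.1
  haveI := hz.1; haveI := hz.2.1
  haveI : IsClosedImmersion (sub R N).left := isClosedImmersion_sub N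
  haveI : Mono (sub R N) := Over.mono_of_mono_left _
  let iS := F₀.map (sub R N ≫ incl f)
  let c := F₀.map z
  have hSk : Red.IsTorus (Red.bc (basePt R k) (sp R (MonoidAlgebra R (Multiplicative (M ⧸ N))))) := isTorus_bc _ hS
  have hc : Red.IsCentralizerOf iS c := isCentralizerOf_bc (basePt R k) _ _ hz
  haveI := hc.1; haveI := hc.2.1
  obtain ⟨hcl, hsC, haC⟩ := centralizer_props hSk hc
  haveI := hcl; haveI := hsC; haveI := haC
  haveI : ConnectedSpace (Red.bc (basePt R k) Z).left := SolvGrp.connectedSpace_centralizer hSk hc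
  have hZred : Red.IsReductiveOver k (Red.bc (basePt R k) Z) :=
    ⟨inferInstance, inferInstance, inferInstance, fun U _ i _ hi hsU hcU hn hnt => by
      haveI := hi; haveI := hsU; haveI := hcU
      exact eq_one_of_normal_centralizer hG iS hSk c hc i hn hnt⟩
  have hac : F₀.map a ≫ c = F₀.map (incl f) := by rw [← Functor.map_comp, ha]
  haveI : Mono (F₀.map a) := by
    haveI : Mono (F₀.map a ≫ c) := hac.symm ▸ hT.2.1
    exact mono_of_mono (F₀.map a) c
  have haT : AGF.IsMaxTorus (F₀.map a) :=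
    ⟨inferInstance, inferInstance, hT.2.2.1, fun T' _ j _ _ g hT' hg => hT.2.2.2 T' (j ≫ c) g hT'
      (by rw [← Category.assoc, hg, hac])⟩
  obtain ⟨F, hF⟩ := exists_charFn (k := k) (R := R) mu
  have hmul : ∀ x y, vl (x * y) F = vl x F * vl y F := fun x y => by
    obtain ⟨bx, hbx, ex⟩ := hF x
    obtain ⟨bz, hbz, ez⟩ := hF y
    obtain ⟨bm, hbm, em⟩ := hF (x * y)
    rw [ex, ez, em]
    rw [hbx, hbz, ← MonObj.comp_mul, ← map_mul, cancel_epi, EquivLike.apply_eq_iff_eq] at hbm
    have h2 := congrArg (fun φ => φ.ofConv (MonoidAlgebra.single (Multiplicative.ofAdd mu) 1)) hbm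
    simp only [AlgHom.convMul_apply, MonoidAlgebra.comul_single] at h2
    simpa using h2.symm
  have hone : vl (1 : PT ⟶ Red.bc (basePt R k) (sp R (MonoidAlgebra R (Multiplicative M)))) F = 1 := by
    obtain ⟨bo, hbo, eo⟩ := hF 1
    rw [eo]
    rw [← MonObj.comp_one (ptIso k).hom, ← map_one (cls (k := k) (A := MonoidAlgebra R (Multiplicative M)) (B := k)),
      cancel_epi, EquivLike.apply_eq_iff_eq] at hbo
    have h2 := congrArg (fun φ => φ.ofConv (MonoidAlgebra.single (Multiplicative.ofAdd mu) 1)) hbo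
    simp only [AlgHom.convOne_apply] at h2
    simpa using h2.symm
  have hcen : ∀ t, vl t F = 1 → ∀ g : PT ⟶ Red.bc (basePt R k) Z, Commute g (t ≫ F₀.map a) := by
    intro t ht g
    obtain ⟨bt, rfl, et⟩ := hF t
    rw [et] at ht
    obtain ⟨T', hT'⟩ := exists_fac_sub N bt fun m hm => by
      rw [hN] at hm
      let χ := (MonoidAlgebra.lift R k (Multiplicative M)).symm bt
      have hχ : χ (Multiplicative.ofAdd mu) = 1 := ht
      obtain ⟨j, rfl⟩ := AddSubgroup.mem_zmultiples_iff.mp hm
      show χ (Multiplicative.ofAdd (j • mu)) = 1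
      rw [ofAdd_zsmul]
      show χ ((Multiplicative.ofAdd mu) ^ j) = 1
      rw [← MonoidHom.coe_toHomUnits, map_zpow, show χ.toHomUnits (Multiplicative.ofAdd mu) = 1 from Units.ext hχ,
        one_zpow, Units.val_one]
    have hw : ((ptIso k).hom ≫ cls (toConv bt)) ≫ F₀.map (incl f) = ((ptIso k).hom ≫ cls (toConv T')) ≫ iS := by
      rw [show iS = F₀.map (sub R N) ≫ F₀.map (incl f) from F₀.map_comp _ _, Category.assoc, Category.assoc,
        ← Category.assoc (cls (toConv T'))]
      rw [show cls (toConv T') ≫ F₀.map (sub R N) = cls (k := k) (toConv bt) from by rw [cls_comp_map, hT']]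
    have h1 := (hc.2.2 _ (g ≫ c)).mp ⟨g, rfl⟩ PT (𝟙 _) ((ptIso k).hom ≫ cls (toConv T'))
    rw [Category.id_comp, ← hw, ← hac, ← Category.assoc, ← MonObj.mul_comp, ← MonObj.mul_comp] at h1
    exact (cancel_mono c).mp h1
  obtain ⟨h1, h2⟩ := rankOne hZred (F₀.map a) haT F hmul hone hcen
  exact ⟨hZred, haT, h1, h2⟩

end Groth.Agent.RedOpen
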