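import Groth.Agent.RedOpen.Open
import Groth.Agent.SolvGrp.CentreFinite
import Groth.Agent.SolvGrp.AlmostSimpleExt
import Groth.Agent.SolvGrp.Radical2
import Groth.Agent.RedRank.ReductiveRank
import Groth.Agent.GrpSchLib.FibreDimGrp

/-!
# Openness of the semisimple locus
-/

universe u

open CategoryTheory CategoryTheory.Limits MonoidalCategory CartesianMonoidalCategory MonObj AlgebraicGeometry

set_option backward.isDefEq.respectTransparency false
set_option backward.isDefEq.respectTransparency.types false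
set_option linter.style.haveILetI false
set_option synthInstance.maxHeartbeats 200000
set_option maxHeartbeats 2000000
set_option autoImplicit false

namespace Groth.Agent.RedOpen

open GrpSchLib SolvGrp AGFLib.BorelFixed AGFLib.BorelExist AGFLib.Gen

/-- A reductive group is semisimple exactly when its centre is finite. -/
theorem semisimple_iff_centre {k : Type u} [Field k] [IsAlgClosed k] {G Z : Over (Spec (CommRingCat.of k))}
    [GrpObj G] [GrpObj Z] (hG : Red.IsReductiveOver k G) (z : Z ⟶ G) (hz : Red.IsCentre z)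
    [IsClosedImmersion z.left] :
    Red.IsSemisimpleOver k G ↔ topologicalKrullDim ↥Z.left ≤ 0 := by
  haveI := hG.1; haveI := hG.2.1; haveI := hG.2.2.1
  haveI := hz.1; haveI := hz.2.1
  haveI : IsReduced G.left := isReduced_of_smooth_field G.hom
  obtain ⟨haZ, hlZ, hqZ, hmZ, -⟩ := sub_props z
  haveI := haZ; haveI := hlZ
  haveI := GrpSchLib.AntiAffine.isSeparated_grp Z
  have hcen : ∀ w ∈ rangePts z, ∀ g : 𝟙_ _ ⟶ G, Commute g w := by
    rintro _ ⟨x, rfl⟩ g
    have h := (hz.2.2 _ (x ≫ z)).mp ⟨x, rfl⟩ _ (𝟙 _) g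
    rw [Category.id_comp, Category.comp_id] at h
    exact h.symm
  constructor
  · intro hs
    have hfin := finite_central_of_semisimple hs (rangePts z) (ptsClosed_range z) hcen
    haveI : Finite (𝟙_ _ ⟶ Z) := by
      haveI := hfin.to_subtype
      exact Finite.of_injective (fun x => (⟨x ≫ z, x, rfl⟩ : ((rangePts z : Set (𝟙_ (Over (Spec (CommRingCat.of k))) ⟶ G)) : Type u)))
        fun a b h => (cancel_mono z).mp (congrArg Subtype.val h)
    haveI : JacobsonSpace Z.left := LocallyOfFiniteType.jacobsonSpace Z.hom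
    have hcl : (closedPoints Z.left).Finite := (Set.finite_range (cp : (𝟙_ _ ⟶ Z) → Z.left)).subset fun x hx => by
      obtain ⟨w, hw⟩ := exists_cp hx
      exact ⟨w, hw⟩
    haveI := JacobsonSpace.discreteTopology hcl
    exact topologicalKrullDim_zero_of_discreteTopology _
  · intro hd
    refine ⟨hG, fun T _ i _ hci hn hT => ?_⟩
    haveI := hci
    obtain ⟨haT, hsT, hcT, -⟩ := torus_props hT
    haveI := haT; haveI := hsT; haveI := hcT
    haveI : IsReduced T.left := isReduced_of_smooth_field T.hom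
    haveI : LocallyOfFiniteType T.hom := inferInstance
    have hcent := central_of_normal_torus i hT hn
    obtain ⟨w, hw⟩ := (hz.2.2 T i).mpr fun X' x h => by
      have h1 := congrArg (lift x h ≫ ·) hcent
      simp only [MonObj.comp_mul, lift_fst_assoc, lift_snd] at h1
      rwa [Category.comp_id]
    haveI : IsClosedImmersion w.left := by
      haveI : IsClosedImmersion (w.left ≫ z.left) := by rw [← Over.comp_left, hw]; infer_instance
      exact IsClosedImmersion.of_comp w.left z.left
    have hdT : topologicalKrullDim ↥T.left ≤ 0 :=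
      w.left.isClosedEmbedding.isInducing.topologicalKrullDim_le.trans hd
    refine isTrivialGrp_of_pts fun x => ?_
    let e : 𝟙_ (Over (Spec (CommRingCat.of k))) ⟶ T := 1
    haveI := GrpSchLib.AntiAffine.isSeparated_grp T
    haveI : IsClosedImmersion e.left := by
      haveI : IsClosedImmersion (e.left ≫ T.hom) := by
        rw [Over.w e]; exact inferInstanceAs (IsClosedImmersion (𝟙 _))
      exact IsClosedImmersion.of_comp e.left T.hom
    haveI : LocallyOfFiniteType (𝟙_ (Over (Spec (CommRingCat.of k)))).hom := inferInstanceAs (LocallyOfFiniteType (𝟙 _))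
    by_cases hne : Set.range e.left = Set.univ
    · obtain ⟨w', hw'⟩ := exists_of_mem_range e x (by rw [hne]; trivial)
      rw [← hw', show e = 1 from rfl, MonObj.comp_one]
    · exfalso
      have h := (dim_lt e hne).trans_le hdT
      haveI : Nonempty (TopologicalSpace.IrreducibleCloseds ↥(𝟙_ (Over (Spec (CommRingCat.of k)))).left) :=
        ⟨⟨closure {(IsLocalRing.closedPoint k : ↥(Spec (CommRingCat.of k)))}, isIrreducible_singleton.closure,
          isClosed_closure⟩⟩
      exact absurd h (not_lt.mpr Order.krullDim_nonneg)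

/-- Near a semisimple geometric fibre the fibres are semisimple. -/
theorem exists_semisimple_nhd {S : Scheme.{u}} {G : Over S} [GrpObj G] [IsAffineHom G.hom] [Smooth G.hom]
    (hconn : ∀ t : S, _root_.IsConnected (G.hom.base ⁻¹' {t})) (s₀ : S)
    (h₀ : Red.IsSemisimpleOver (AlgebraicClosure (S.residueField s₀)) (Red.geomFibre s₀ G)) :
    ∃ V : S.Opens, s₀ ∈ V ∧ ∀ t ∈ V,
      Red.IsSemisimpleOver (AlgebraicClosure (S.residueField t)) (Red.geomFibre t G) := by
  obtain ⟨B, _, v, hv, hs₀, hred, -⟩ := exists_etale_nhd hconn s₀ h₀.1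
  haveI := hv
  let G' := Red.bc v G
  haveI : IsAffineHom G'.hom := MorphismProperty.pullback_snd (P := @IsAffineHom) _ _ inferInstance
  haveI : Smooth G'.hom := inferInstanceAs (Smooth (pullback.snd G.hom v))
  have hG' : Red.IsReductive G' := ⟨inferInstance, inferInstance, fun b => by
    obtain ⟨e⟩ := MultTypeBC.bc_bc (Red.geomPt b) v G
    exact isReductiveOver_congr₀ e.symm (hred _ (Red.geomPt b))⟩
  obtain ⟨Z, _, z, hz, hzcl, -, -⟩ := RedRank.ReductiveRank.exists_centre hG'
  haveI := hzcl; haveI := hz.1; haveI := hz.2.1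
  haveI : LocallyOfFiniteType Z.hom := by rw [← Over.w z]; infer_instance
  have key : ∀ (K : Type u) [Field K] [IsAlgClosed K] (b : Spec (CommRingCat.of K) ⟶ Spec (CommRingCat.of B)),
      Red.IsSemisimpleOver K (Red.bc (b ≫ v) G) ↔
        topologicalKrullDim ↥(Z.hom ⁻¹' {b (IsLocalRing.closedPoint K)}) ≤ 0 := by
    intro K _ _ b
    haveI : (Over.pullback b).IsRightAdjoint := (Over.mapPullbackAdj b).isRightAdjoint
    obtain ⟨e⟩ := MultTypeBC.bc_bc b v G
    haveI : IsClosedImmersion ((Over.pullback b).map z).left :=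
      MorphismProperty.of_isPullback (P := @IsClosedImmersion) (MaxTorusBC.isPullback_map b z) inferInstance
    have hc := isCentralizerOf_bc b (𝟙 G') z hz
    rw [CategoryTheory.Functor.map_id] at hc
    rw [← dim_bc Z b, ← semisimple_iff_centre (isReductiveOver_congr₀ e.symm (hred K b)) ((Over.pullback b).map z) hc]
    exact ⟨isSemisimpleOver_congr e.symm, isSemisimpleOver_congr e⟩
  let O : (Spec (CommRingCat.of B)).Opens :=
    ⟨{b | topologicalKrullDim ↥(Z.hom ⁻¹' {b}) ≤ ((0 : ℕ) : WithBot ℕ∞)}, FibreDimGrp.isOpen_le Z 0⟩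
  obtain ⟨τ, hτ⟩ := RedRank.exists_lift_geomPt v s₀ hs₀
  have hτO : τ (IsLocalRing.closedPoint _) ∈ O := by
    show topologicalKrullDim _ ≤ ((0 : ℕ) : WithBot ℕ∞)
    rw [Nat.cast_zero, ← key]
    obtain ⟨e⟩ := MultTypeBC.bc_congr hτ.symm G
    exact isSemisimpleOver_congr e h₀
  let q : O.toScheme ⟶ S := O.ι ≫ v
  refine ⟨⟨Set.range q, q.isOpenMap.isOpen_range⟩, ⟨⟨_, hτO⟩, ?_⟩, fun t ht => ?_⟩
  · show v (τ (IsLocalRing.closedPoint _)) = s₀
    rw [← Scheme.Hom.comp_apply, hτ, geomPt_closedPoint]
  · obtain ⟨σ, hσ⟩ := RedRank.exists_lift_geomPt q t ht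
    obtain ⟨e⟩ := MultTypeBC.bc_congr (show (σ ≫ O.ι) ≫ v = Red.geomPt t by rw [Category.assoc]; exact hσ) G
    refine isSemisimpleOver_congr e ((key _ (σ ≫ O.ι)).mpr ?_)
    have h : topologicalKrullDim ↥(Z.hom ⁻¹' {O.ι (σ (IsLocalRing.closedPoint _))}) ≤ ((0 : ℕ) : WithBot ℕ∞) :=
      (σ (IsLocalRing.closedPoint _)).2
    rw [Nat.cast_zero] at h
    exact h

end Groth.Agent.RedOpen
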