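import Groth.Agent.RedOpen.Open
import Groth.Agent.S5313

/-!
# A flat group with a smooth fibre is smooth nearby
-/

universe u

open CategoryTheory CategoryTheory.Limits MonoidalCategory CartesianMonoidalCategory MonObj AlgebraicGeometry

set_option backward.isDefEq.respectTransparency false
set_option backward.isDefEq.respectTransparency.types false
set_option linter.style.haveILetI false
set_option maxHeartbeats 1000000
set_option autoImplicit false

namespace Groth.Agent.RedOpen

/-- A flat group of finite presentation with a smooth geometric fibre is smooth near that point. -/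
theorem exists_smooth_nhd {S : Scheme.{u}} (G : Over S) [GrpObj G] [Flat G.hom]
    [LocallyOfFinitePresentation G.hom] (s₀ : S) (h₀ : Smooth (Red.geomFibre s₀ G).hom) :
    ∃ U : S.Opens, s₀ ∈ U ∧ Smooth (Red.bc U.ι G).hom := by
  haveI : LocallyOfFiniteType (𝟙_ (Over S)).hom := inferInstanceAs (LocallyOfFiniteType (𝟙 S))
  obtain ⟨ho, hpre⟩ := Groth.Agent.S5313.result S G (𝟙_ (Over S)) (toUnit G)
  let j := S.fromSpecResidueField
  have hiff : ∀ s : S, Smooth ((Over.pullback (j s)).map (toUnit G)).left ↔ Smooth (pullback.snd G.hom (j s)) := by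
    intro s
    haveI : IsIso ((Over.pullback (j s)).obj (𝟙_ (Over S))).hom :=
      inferInstanceAs (IsIso (pullback.snd (𝟙 S) (j s)))
    have e : ((Over.pullback (j s)).map (toUnit G)).left ≫ ((Over.pullback (j s)).obj (𝟙_ (Over S))).hom =
        pullback.snd G.hom (j s) := Over.w ((Over.pullback (j s)).map (toUnit G))
    rw [← e]
    exact (MorphismProperty.cancel_right_of_respectsIso (P := @Smooth) _ _).symm
  have hs₀ : s₀ ∈ {s : S | Smooth ((Over.pullback (j s)).map (toUnit G)).left} := by
    refine (hiff s₀).mpr ?_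
    let b : Spec (CommRingCat.of (AlgebraicClosure (S.residueField s₀))) ⟶ Spec (S.residueField s₀) :=
      Spec.map (CommRingCat.ofHom (algebraMap (S.residueField s₀) (AlgebraicClosure (S.residueField s₀))))
    apply MorphismProperty.of_pullback_snd_of_descendsAlong
      (Q := @Surjective ⊓ @Flat ⊓ @QuasiCompact) (g := b)
    · refine ⟨⟨⟨fun x => ⟨IsLocalRing.closedPoint _, ?_⟩⟩, ?_⟩, inferInstance⟩
      · haveI := FibDim.subsingleton_spec_field (S.residueField s₀)
        exact Subsingleton.elim (α := ↥(Spec (S.residueField s₀))) _ _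
      · rw [HasRingHomProperty.Spec_iff (P := @Flat)]
        exact RingHom.Flat.of_isField (Field.toIsField _) _
    · haveI : Smooth (pullback.snd G.hom (b ≫ j s₀)) := h₀
      rw [← pullbackLeftPullbackSndIso_hom_snd G.hom (j s₀) b]
      infer_instance
  let U : S.Opens := ⟨_, ho⟩
  refine ⟨U, hs₀, ?_⟩
  let V : G.left.Opens := G.hom ⁻¹ᵁ U
  have hV : Smooth (V.ι ≫ G.hom) := by
    have hx : ∀ x : V.toScheme, ∃ W : G.left.Opens, V.ι x ∈ W ∧ Smooth (W.ι ≫ G.hom) := fun x => by
      have h : V.ι x ∈ G.hom.base ⁻¹' {s : S | Smooth ((Over.pullback (j s)).map (toUnit G)).left} := x.2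
      rw [← hpre] at h
      exact h
    choose W hxW hW using hx
    refine (IsZariskiLocalAtSource.iff_of_iSup_eq_top (P := @Smooth) (U := fun x => V.ι ⁻¹ᵁ W x)
      (top_le_iff.mp fun x _ => TopologicalSpace.Opens.mem_iSup.mpr ⟨x, hxW x⟩)).mpr fun x => ?_
    haveI := hW x
    let l : (V.ι ⁻¹ᵁ W x).toScheme ⟶ (W x).toScheme := V.ι.resLE (W x) (V.ι ⁻¹ᵁ W x) le_rfl
    have hl : l ≫ (W x).ι ≫ G.hom = (V.ι ⁻¹ᵁ W x).ι ≫ V.ι ≫ G.hom := by
      rw [← Category.assoc, Scheme.Hom.resLE_comp_ι, Category.assoc]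
    rw [← hl]
    haveI : IsOpenImmersion (l ≫ (W x).ι) := by rw [Scheme.Hom.resLE_comp_ι]; infer_instance
    haveI : IsOpenImmersion l := IsOpenImmersion.of_comp l (W x).ι
    infer_instance
  haveI : Smooth (V.ι ≫ G.hom) := hV
  show Smooth (pullback.snd G.hom U.ι)
  have hr : Set.range (pullback.fst G.hom U.ι) ⊆ Set.range V.ι := by
    rw [Scheme.Opens.range_ι]
    rintro _ ⟨p, rfl⟩
    show G.hom (pullback.fst G.hom U.ι p) ∈ U
    rw [← Scheme.Hom.comp_apply, pullback.condition, Scheme.Hom.comp_apply]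
    exact (pullback.snd G.hom U.ι p).2
  let m := IsOpenImmersion.lift V.ι (pullback.fst G.hom U.ι) hr
  haveI : IsOpenImmersion (m ≫ V.ι) := by rw [IsOpenImmersion.lift_fac]; infer_instance
  haveI : IsOpenImmersion m := IsOpenImmersion.of_comp m V.ι
  have hm : pullback.snd G.hom U.ι ≫ U.ι = m ≫ V.ι ≫ G.hom := by
    rw [← Category.assoc, IsOpenImmersion.lift_fac, pullback.condition]
  haveI : Smooth (pullback.snd G.hom U.ι ≫ U.ι) := by rw [hm]; infer_instance
  exact MorphismProperty.of_postcomp (W := @Smooth) (W' := @IsOpenImmersion) (pullback.snd G.hom U.ι) U.ι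
    inferInstance inferInstance

end Groth.Agent.RedOpen
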