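import Groth.Agent.RedRank.CentreWeights
import Mathlib.Algebra.DualNumber
import Mathlib.RingTheory.Filtration
import Mathlib.LinearAlgebra.Dual.Lemmas

/-!
# A weighted tangent vector of a subgroup stable under a diagonalisable group
-/

universe u

open TensorProduct WithConv

set_option autoImplicit false
set_option backward.isDefEq.respectTransparency false
set_option backward.isDefEq.respectTransparency.types false
set_option linter.style.haveILetI false
set_option maxHeartbeats 1000000

namespace Groth.Agent.RedOpen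

open RedRank.CentreWeights

theorem coeff_sum_single {A B : Type u} [AddCommMonoid A] [CommSemiring B] {Λ : Type} (x : Λ →₀ A) (h : A → B)
    (h0 : h 0 = 0) (m : Λ) : (x.sum fun l r => MonoidAlgebra.single l (h r)).coeff m = h (x m) := by
  classical
  rw [Finsupp.sum, MonoidAlgebra.coeff_sum, Finsupp.finset_sum_apply, Finset.sum_eq_single m]
  · simp
  · intro l _ hl
    simp [hl]
  · intro hm
    simp [Finsupp.notMem_support_iff.mp hm, h0]

section Identities

variable {R : Type u} [CommRing R] {A : Type u} [CommRing A] [HopfAlgebra R A] {Λ : Type} [CommGroup Λ]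
  (f : A →ₐc[R] MonoidAlgebra R Λ)

/-- The counit only sees the invariant component. -/
theorem counit_comp [DecidableEq Λ] (m : Λ) (a : A) :
    Bialgebra.counitAlgHom R A (comp f m a) = if m = 1 then Bialgebra.counitAlgHom R A a else 0 := by
  let g : A →ₐ[R] MonoidAlgebra R Λ := (Algebra.ofId R (MonoidAlgebra R Λ)).comp (Bialgebra.counitAlgHom R A)
  have hg : (toConv g) = 1 := WithConv.ext (AlgHom.ext fun a => by simp [g, AlgHom.convOne_apply])
  have h := conj_apply f (MonoidAlgebra.of R Λ) g a
  rw [hg, show conj f (MonoidAlgebra.of R Λ) (1 : WithConv (A →ₐ[R] MonoidAlgebra R Λ)) = 1 by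
    rw [conj, _root_.mul_one, pull_mul_inv']] at h
  have h2 := congrArg (fun x : MonoidAlgebra R Λ => x.coeff m) h
  simp only [AlgHom.convOne_apply] at h2
  have e : ((coact f a).coeff.sum fun l r => g r * (MonoidAlgebra.of R Λ) l) =
      (coact f a).coeff.sum fun l r => MonoidAlgebra.single l (Bialgebra.counitAlgHom R A r) := by
    refine Finsupp.sum_congr fun l _ => ?_
    simp [g, MonoidAlgebra.single_mul_single]
  rw [e, coeff_sum_single _ _ (map_zero _)] at h2
  rw [comp]
  refine h2.symm.trans ?_
  rw [show (algebraMap R (MonoidAlgebra R Λ)) (CoalgebraStruct.counit a) =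
    MonoidAlgebra.single 1 (CoalgebraStruct.counit a) from rfl, MonoidAlgebra.coeff_single, Finsupp.single_apply]
  simp [eq_comm]

/-- The components of an element sum to it. -/
theorem sum_comp (a : A) : (coact f a).coeff.sum (fun _ r => r) = a := by
  have h := conj_apply f (1 : Λ →* A) (AlgHom.id R A) a
  rw [show conj f (1 : Λ →* A) (toConv (AlgHom.id R A)) = toConv (AlgHom.id R A) by
    simp [conj, pull_one, inv']] at h
  simpa using h.symm

/-- The components are orthogonal projections. -/
theorem comp_comp [DecidableEq Λ] (m l : Λ) (a : A) :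
    comp f m (comp f l a) = if l = m then comp f m a else 0 := by
  let g : A →ₐ[R] MonoidAlgebra A (Λ × Λ) := MonoidAlgebra.singleOneAlgHom
  let σ : Λ →* MonoidAlgebra A (Λ × Λ) := (MonoidAlgebra.of A (Λ × Λ)).comp (MonoidHom.inl Λ Λ)
  let τ : Λ →* MonoidAlgebra A (Λ × Λ) := (MonoidAlgebra.of A (Λ × Λ)).comp (MonoidHom.inr Λ Λ)
  have h := congrArg (fun x => (x.ofConv a).coeff (m, l)) (conj_conj f τ σ (toConv g))
  let h' : A →ₐ[R] MonoidAlgebra A (Λ × Λ) := (conj f σ (toConv g)).ofConv
  have hg' : ∀ r, g r = MonoidAlgebra.single (1, 1) r := fun r => rfl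
  have hσ' : ∀ n, σ n = MonoidAlgebra.single (n, 1) 1 := fun n => rfl
  have hτ' : ∀ n, τ n = MonoidAlgebra.single (1, n) 1 := fun n => rfl
  rw [show conj f σ (toConv g) = toConv h' from rfl] at h
  simp only [conj_apply] at h
  have hh' : ∀ b, h' b = (coact f b).coeff.sum fun n r => MonoidAlgebra.single (n, (1 : Λ)) r := by
    intro b
    refine (conj_apply f σ g b).trans (Finsupp.sum_congr fun n _ => ?_)
    rw [hg', hσ', MonoidAlgebra.single_mul_single]; simp
  have hL : ((coact f a).coeff.sum fun n r => h' r * τ n).coeff (m, l) = comp f m (comp f l a) := by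
    rw [Finsupp.sum, MonoidAlgebra.coeff_sum, Finsupp.finset_sum_apply]
    have key : ∀ (n : Λ) (r : A), (h' r * τ n).coeff (m, l) = if n = l then comp f m r else 0 := by
      intro n r
      rw [hh', Finsupp.sum_mul, Finsupp.sum, MonoidAlgebra.coeff_sum, Finsupp.finset_sum_apply]
      simp only [hτ',
        MonoidAlgebra.single_mul_single, Prod.mk_mul_mk, _root_.mul_one, _root_.one_mul, MonoidAlgebra.coeff_single,
        Finsupp.single_apply, Prod.mk.injEq]
      by_cases hn : n = l
      · subst hn
        simp only [and_true, if_true, Finset.sum_ite_eq']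
        split_ifs with hm
        · rfl
        · exact (Finsupp.notMem_support_iff.mp hm).symm
      · simp [hn]
    simp only [key, Finset.sum_ite_eq']
    split_ifs with hl
    · rfl
    · rw [show comp f l a = 0 from Finsupp.notMem_support_iff.mp hl]
      simp [comp]
  rw [hL] at h
  rw [h]
  rw [Finsupp.sum, MonoidAlgebra.coeff_sum, Finsupp.finset_sum_apply]
  simp only [MonoidHom.mul_apply, hτ', hσ', hg', MonoidAlgebra.single_mul_single, Prod.mk_mul_mk, _root_.mul_one,
    _root_.one_mul, MonoidAlgebra.coeff_single, Finsupp.single_apply, Prod.mk.injEq]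
  by_cases hl : l = m
  · subst hl
    simp only [and_self, Finset.sum_ite_eq', if_true]
    split_ifs with hs
    · rfl
    · exact (Finsupp.notMem_support_iff.mp hs).symm
  · rw [if_neg hl]
    exact Finset.sum_eq_zero fun n _ => if_neg fun hn => hl (hn.2.symm.trans hn.1)

end Identities

section Deriv

open TrivSqZeroExt

variable {k : Type u} [Field k] {C : Type u} [CommRing C] [Algebra k C]

/-- A noetherian domain with a non-injective rational point has a tangent vector there. -/
theorem exists_derivation [IsDomain C] [IsNoetherianRing C] (εC : C →ₐ[k] k) (hε : ¬ Function.Injective εC) :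
    ∃ δ : C →ₗ[k] k, δ ≠ 0 ∧ ∀ x y, δ (x * y) = εC x * δ y + εC y * δ x := by
  let I : Ideal C := RingHom.ker εC.toRingHom
  have hI0 : I ≠ ⊥ := fun h => hε ((RingHom.injective_iff_ker_eq_bot εC.toRingHom).mpr h)
  have hI1 : I ≠ ⊤ := RingHom.ker_ne_top _
  have hI2 : ¬ I ≤ I ^ 2 := fun h => by
    have hpow : ∀ n : ℕ, I ≤ I ^ (n + 1) := fun n => by
      induction n with
      | zero => simp
      | succ n ih =>
        calc I ≤ I ^ 2 := h
          _ = I * I := pow_two I
          _ ≤ I ^ (n + 1) * I := Ideal.mul_mono_left ih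
          _ = I ^ (n + 1 + 1) := (pow_succ I (n + 1)).symm
    refine hI0 (le_bot_iff.mp ?_)
    rw [← Ideal.iInf_pow_eq_bot_of_isDomain I hI1]
    exact le_iInf fun n => (hpow n).trans (Ideal.pow_le_pow_right n.le_succ)
  obtain ⟨x, hx, hx2⟩ := SetLike.not_le_iff_exists.mp hI2
  obtain ⟨φ, hφx, hφ⟩ := Submodule.exists_dual_map_eq_bot_of_notMem
    (p := (I ^ 2).restrictScalars k) (x := x) (fun h => hx2 ((Submodule.restrictScalars_mem k (I ^ 2) x).mp h)) inferInstance
  have hφ' : ∀ z ∈ I ^ 2, φ z = 0 := fun z hz =>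
    (Submodule.mem_bot k).mp (hφ ▸ Submodule.mem_map_of_mem (f := φ) (show z ∈ (I ^ 2).restrictScalars k from hz))
  let P : C →ₗ[k] C := LinearMap.id - (Algebra.linearMap k C).comp εC.toLinearMap
  have hP : ∀ c, P c = c - algebraMap k C (εC c) := fun c => rfl
  have hPI : ∀ c, P c ∈ I := fun c => by
    show εC (P c) = 0
    simp [hP]
  refine ⟨φ.comp P, fun h => hφx ?_, fun a b => ?_⟩
  · have h2 : φ (P x) = 0 := LinearMap.congr_fun h x
    rwa [hP, show εC x = 0 from hx, map_zero, sub_zero] at h2
  · show φ (P (a * b)) = εC a * φ (P b) + εC b * φ (P a)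
    have e : P (a * b) = P a * P b + (εC a • P b + εC b • P a) := by
      simp only [hP, Algebra.smul_def, map_mul]
      ring
    rw [e, map_add, map_add, hφ' _ (pow_two I ▸ Ideal.mul_mem_mul (hPI a) (hPI b)), map_smul, map_smul, zero_add]
    rfl

variable (εC : C →ₐ[k] k) (δ : C →ₗ[k] k) (hδ : ∀ x y, δ (x * y) = εC x * δ y + εC y * δ x)

include hδ in
theorem deriv_one : δ 1 = 0 := by simpa using hδ 1 1

include hδ in
theorem deriv_algebraMap (c : k) : δ (algebraMap k C c) = 0 := by
  rw [Algebra.algebraMap_eq_smul_one, map_smul, deriv_one εC δ hδ, smul_zero]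

/-- The dual number valued point of a derivation. -/
noncomputable def tangent : C →ₐ[k] DualNumber k :=
  AlgHom.ofLinearMap
    { toFun := fun c => inl (εC c) + inr (δ c)
      map_add' := fun a b => by ext <;> simp
      map_smul' := fun r a => by ext <;> simp }
    (by ext <;> simp [deriv_one εC δ hδ])
    (fun a b => by
      show inl (εC (a * b)) + inr (δ (a * b)) = (inl (εC a) + inr (δ a)) * (inl (εC b) + inr (δ b))
      rw [hδ]
      ext <;> simp [mul_comm (δ a)])

@[simp] theorem fst_tangent (c : C) : (tangent εC δ hδ c).fst = εC c := by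
  show (inl (εC c) + inr (δ c) : DualNumber k).fst = _
  simp

@[simp] theorem snd_tangent (c : C) : (tangent εC δ hδ c).snd = δ c := by
  show (inl (εC c) + inr (δ c) : DualNumber k).snd = _
  simp

/-- The Leibniz rule for the coefficients of a product, for elements of trivial reduction. -/
theorem deriv_coeff_mul {Λ : Type} [CommGroup Λ] [DecidableEq Λ] (p q : MonoidAlgebra C Λ) (a b : k)
    (hp : ∀ l, εC (p.coeff l) = if l = 1 then a else 0) (hq : ∀ l, εC (q.coeff l) = if l = 1 then b else 0)
    (hδ : ∀ x y, δ (x * y) = εC x * δ y + εC y * δ x) (m : Λ) :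
    δ ((p * q).coeff m) = a * δ (q.coeff m) + b * δ (p.coeff m) := by
  let G := MonoidAlgebra.mapAlgHom Λ (tangent εC δ hδ)
  let P := G p - MonoidAlgebra.single 1 (inl a)
  let Q := G q - MonoidAlgebra.single 1 (inl b)
  have hP : ∀ l, (P.coeff l).fst = 0 := fun l => by
    simp only [P, G, MonoidAlgebra.coeff_sub, Finsupp.sub_apply, MonoidAlgebra.coeff_mapAlgHom,
      MonoidAlgebra.coeff_single, Finsupp.single_apply, TrivSqZeroExt.fst_sub, fst_tangent, hp]
    by_cases hl : l = 1 <;> simp [hl, Ne.symm, eq_comm]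
  have hQ : ∀ l, (Q.coeff l).fst = 0 := fun l => by
    simp only [Q, G, MonoidAlgebra.coeff_sub, Finsupp.sub_apply, MonoidAlgebra.coeff_mapAlgHom,
      MonoidAlgebra.coeff_single, Finsupp.single_apply, TrivSqZeroExt.fst_sub, fst_tangent, hq]
    by_cases hl : l = 1 <;> simp [hl, Ne.symm, eq_comm]
  have hPQ : P * Q = 0 := by
    refine MonoidAlgebra.ext (Finsupp.ext fun l => ?_)
    rw [MonoidAlgebra.coeff_mul]
    simp only [MonoidAlgebra.coeff_zero, Finsupp.coe_zero, Pi.zero_apply, Finsupp.sum]
    refine Finset.sum_eq_zero fun x _ => Finset.sum_eq_zero fun y _ => ?_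
    split_ifs
    · ext <;> simp [hP, hQ]
    · rfl
  have hGp : G p = MonoidAlgebra.single 1 (inl a) + P := by simp [P]
  have hGq : G q = MonoidAlgebra.single 1 (inl b) + Q := by simp [Q]
  have e : G (p * q) = MonoidAlgebra.single 1 (inl a) * MonoidAlgebra.single 1 (inl b) +
      MonoidAlgebra.single 1 (inl a) * Q + P * MonoidAlgebra.single 1 (inl b) := by
    rw [map_mul, hGp, hGq]
    linear_combination hPQ
  have h := congrArg (fun x : MonoidAlgebra (DualNumber k) Λ => (x.coeff m).snd) e
  have hsndQ : (Q.coeff m).snd = δ (q.coeff m) := by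
    simp only [Q, G, MonoidAlgebra.coeff_sub, Finsupp.sub_apply, MonoidAlgebra.coeff_mapAlgHom,
      MonoidAlgebra.coeff_single, Finsupp.single_apply, TrivSqZeroExt.snd_sub, snd_tangent]
    by_cases hm : m = 1 <;> simp [hm, Ne.symm, eq_comm]
  have hsndP : (P.coeff m).snd = δ (p.coeff m) := by
    simp only [P, G, MonoidAlgebra.coeff_sub, Finsupp.sub_apply, MonoidAlgebra.coeff_mapAlgHom,
      MonoidAlgebra.coeff_single, Finsupp.single_apply, TrivSqZeroExt.snd_sub, snd_tangent]
    by_cases hm : m = 1 <;> simp [hm, Ne.symm, eq_comm]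
  simp only [G, MonoidAlgebra.coeff_mapAlgHom, snd_tangent, MonoidAlgebra.coeff_add, Finsupp.add_apply,
    MonoidAlgebra.single_mul_single, MonoidAlgebra.coeff_single_one_mul, MonoidAlgebra.coeff_mul_single_one,
    MonoidAlgebra.coeff_single, Finsupp.single_apply, TrivSqZeroExt.snd_add, TrivSqZeroExt.snd_mul,
    TrivSqZeroExt.fst_inl, TrivSqZeroExt.snd_inl, hsndP, hsndQ, hP, hQ] at h
  rw [h]
  by_cases hm : 1 = m <;> simp [hm, mul_comm, ← TrivSqZeroExt.inl_mul]

end Deriv

section Main

open TrivSqZeroExt

variable {R : Type u} [CommRing R] {A : Type u} [CommRing A] [HopfAlgebra R A] {Λ : Type} [CommGroup Λ]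
  (f : A →ₐc[R] MonoidAlgebra R Λ) {k : Type u} [Field k] [Algebra R k]
  {C : Type u} [CommRing C] [Algebra k C] [Algebra R C] [IsScalarTower R k C] [IsDomain C] [IsNoetherianRing C]

/-- A non-trivial subgroup stable under conjugation by a diagonalisable group has a tangent vector of a single
weight, among the weights of a given system of generators. -/
theorem exists_weight_tangent (π : A →ₐ[R] C) (hgen : Algebra.adjoin k (Set.range π) = ⊤) (εC : C →ₐ[k] k)
    (hεC : ∀ a, εC (π a) = algebraMap R k (Bialgebra.counitAlgHom R A a)) (hεinj : ¬ Function.Injective εC)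
    (Ψ : C →ₐ[k] MonoidAlgebra C Λ) (hΨ : ∀ a m, (Ψ (π a)).coeff m = π (comp f m a)) (s : Set A)
    (hs : Algebra.adjoin R s = ⊤) :
    ∃ m : Λ, (∃ a ∈ s, comp f m a ≠ 0) ∧ ∃ g : C →ₐ[k] DualNumber k,
      (∃ a, g (π a) ≠ algebraMap R (DualNumber k) (Bialgebra.counitAlgHom R A a)) ∧
      ∀ (B : Type u) [CommRing B] [Algebra k B] [Algebra R B] [IsScalarTower R k B]
        (e : DualNumber k →ₐ[k] B) (χ : Λ →* B), χ m = 1 →
          conj f χ (toConv (((e.comp g).restrictScalars R).comp π)) =
            toConv (((e.comp g).restrictScalars R).comp π) := by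
  classical
  obtain ⟨δ, hδ0, hδ⟩ := exists_derivation εC hεinj
  -- a weight seen on the generators
  obtain ⟨a₀, ha₀, m, hm⟩ : ∃ a ∈ s, ∃ m, δ (π (comp f m a)) ≠ 0 := by
    by_contra! hall
    apply hδ0
    let S₀ : Subalgebra k C :=
      { carrier := {c | δ c = 0}
        mul_mem' := fun {x y} (hx : δ x = 0) (hy : δ y = 0) => by
          show δ (x * y) = 0
          rw [hδ, hx, hy, mul_zero, mul_zero, add_zero]
        one_mem' := deriv_one εC δ hδ
        add_mem' := fun {x y} (hx : δ x = 0) (hy : δ y = 0) => by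
          show δ (x + y) = 0
          rw [map_add, hx, hy, add_zero]
        zero_mem' := map_zero δ
        algebraMap_mem' := deriv_algebraMap εC δ hδ }
    have hle : Algebra.adjoin R s ≤ (S₀.restrictScalars R).comap π := Algebra.adjoin_le fun a ha => by
      show δ (π a) = 0
      rw [← sum_comp f a, map_finsuppSum, map_finsuppSum]
      exact Finset.sum_eq_zero fun l _ => hall a ha l
    have htop : (⊤ : Subalgebra k C) ≤ S₀ := hgen ▸ Algebra.adjoin_le (by
      rintro _ ⟨a, rfl⟩
      exact hle (hs ▸ Algebra.mem_top : a ∈ Algebra.adjoin R s))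
    exact LinearMap.ext fun c => htop Algebra.mem_top
  -- the coefficients reduce to the invariant one
  have hεΨ : (MonoidAlgebra.mapAlgHom Λ εC).comp Ψ =
      (MonoidAlgebra.singleOneAlgHom : k →ₐ[k] MonoidAlgebra k Λ).comp εC := by
    refine AlgHom.ext_of_adjoin_eq_top hgen ?_
    rintro _ ⟨a, rfl⟩
    ext l
    simp only [AlgHom.comp_apply, MonoidAlgebra.coeff_mapAlgHom, hΨ, hεC, counit_comp,
      MonoidAlgebra.singleOneAlgHom_apply, MonoidAlgebra.coeff_single, Finsupp.single_apply]
    by_cases hl : l = 1 <;> simp [hl, Ne.symm]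
  have hεΨ' : ∀ c l, εC ((Ψ c).coeff l) = if l = 1 then εC c else 0 := fun c l => by
    have h := congrArg (fun x : MonoidAlgebra k Λ => x.coeff l) (AlgHom.congr_fun hεΨ c)
    simp only [AlgHom.comp_apply, MonoidAlgebra.coeff_mapAlgHom, MonoidAlgebra.singleOneAlgHom_apply,
      MonoidAlgebra.coeff_single, Finsupp.single_apply] at h
    rw [h]
    simp [eq_comm]
  -- the component of the derivation
  let δm : C →ₗ[k] k :=
    { toFun := fun c => δ ((Ψ c).coeff m)
      map_add' := fun a b => by simp
      map_smul' := fun r a => by simp }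
  have hδm : ∀ x y, δm (x * y) = εC x * δm y + εC y * δm x := fun x y => by
    show δ ((Ψ (x * y)).coeff m) = _
    rw [map_mul]
    exact deriv_coeff_mul εC δ _ _ _ _ (hεΨ' x) (hεΨ' y) hδ m
  let g := tangent εC δm hδm
  have hg : ∀ a, g (π a) = inl (algebraMap R k (Bialgebra.counitAlgHom R A a)) + inr (δ (π (comp f m a))) := fun a => by
    ext
    · simp [g, hεC]
    · simp [g, δm, hΨ]
  refine ⟨m, ⟨a₀, ha₀, fun h => hm (by rw [h, map_zero, map_zero])⟩, g, ⟨a₀, fun h => hm ?_⟩,
    fun B _ _ _ _ e χ hχ => ?_⟩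
  · have h2 := congrArg TrivSqZeroExt.snd h
    rw [hg] at h2
    simpa [TrivSqZeroExt.algebraMap_eq_inl'] using h2
  refine WithConv.ext (AlgHom.ext fun a => ?_)
  rw [conj_apply]
  let ee : B := e (inr 1)
  have heg : ∀ b, ((e.comp g).restrictScalars R).comp π b =
      algebraMap R B (Bialgebra.counitAlgHom R A b) + algebraMap k B (δ (π (comp f m b))) * ee := fun b => by
    show e (g (π b)) = _
    rw [hg, map_add, show (inr (δ (π (comp f m b))) : DualNumber k) = δ (π (comp f m b)) • inr 1 by
      rw [← TrivSqZeroExt.inr_smul, smul_eq_mul, _root_.mul_one], map_smul, Algebra.smul_def]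
    congr 1
    rw [show (inl (algebraMap R k (Bialgebra.counitAlgHom R A b)) : DualNumber k) =
      algebraMap k (DualNumber k) (algebraMap R k (Bialgebra.counitAlgHom R A b)) from rfl, AlgHom.commutes,
      ← IsScalarTower.algebraMap_apply R k B]
  simp only [heg, comp_comp]
  rw [Finsupp.sum]
  have key : ∀ l, (coact f a).coeff l = comp f l a := fun l => rfl
  simp only [key, counit_comp, comp_comp, apply_ite (algebraMap R B), map_zero, add_mul, ite_mul, zero_mul,
    apply_ite π, apply_ite δ, apply_ite (algebraMap k B), Finset.sum_add_distrib, Finset.sum_ite_eq']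
  rw [hχ, map_one χ, _root_.mul_one, _root_.mul_one]
  congr 1
  · split_ifs with h1
    · rfl
    · have h0 : comp f 1 a = 0 := Finsupp.notMem_support_iff.mp h1
      have := counit_comp f 1 a
      rw [if_pos rfl, h0, map_zero] at this
      rw [← this, map_zero]
  · split_ifs with h1
    · rfl
    · have h0 : comp f m a = 0 := Finsupp.notMem_support_iff.mp h1
      rw [h0, map_zero, map_zero, map_zero, zero_mul]

end Main

end Groth.Agent.RedOpen
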